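import Mathlib
import Groth.Prelude
import Groth.Agent.AlgSp.K603.ChevBase
import Groth.Agent.AlgSp.K609.Points

set_option autoImplicit false
universe u
open CategoryTheory CategoryTheory.Limits AlgebraicGeometry Opposite AlgSp

namespace K650.Chev

variable {S : Scheme.{u}}

/-- Chevalley's theorem. -/
theorem chev {X' : Over S} [hX' : IsAffine X'.left] {X : Sp S} (hX : IsAlgSpace X)
    (_hN : IsLocNoethSp X) {π : (yon S).obj X' ⟶ X} (hfin : RepWith @IsFinite π)
    (hs : RepWith @Surjective π) :
    ∃ T : Over S, IsAffine T.left ∧ Nonempty ((yon S).obj T ≅ X) :=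
  K603.ChevBase.aff_of_finite hX hX' π hfin hs

end K650.Chev
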