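import Mathlib.RingTheory.Ideal.Operations
import Mathlib.RingTheory.Ideal.Maps
import Mathlib.RingTheory.Spectrum.Prime.Topology

/-! Coset version of prime avoidance and functions on an affine scheme with prescribed zeros. -/

namespace K650.Avoid

open Ideal

/-- Coset prime avoidance: `a + I` is not contained in a finite union of primes none of which contains `I`. -/
theorem exists_add_notMem {R : Type*} [CommRing R] (I : Ideal R) (a : R) (P : Finset (Ideal R))
    (hP : ∀ p ∈ P, p.IsPrime) (h : ∀ p ∈ P, ¬ I ≤ p) : ∃ i ∈ I, ∀ p ∈ P, a + i ∉ p := by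
  classical
  induction P using Finset.strongInduction with
  | H P ih =>
    by_cases hne : P.Nonempty
    · obtain ⟨q, hq⟩ := P.exists_minimal hne
      have hqP : q ∈ P := hq.1
      obtain ⟨i, hi, hi'⟩ := ih (P.erase q) (Finset.erase_ssubset hqP)
        (fun p hp => hP p (Finset.mem_of_mem_erase hp)) (fun p hp => h p (Finset.mem_of_mem_erase hp))
      by_cases haq : a + i ∈ q
      · have hqpr : q.IsPrime := hP q hqP
        have hnle : ¬ (I ⊓ (P.erase q).inf id) ≤ q := by
          intro hle
          rcases (hqpr.inf_le).1 hle with h1 | h1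
          · exact h q hqP h1
          · obtain ⟨p, hp, hpq⟩ := (hqpr.inf_le').1 h1
            have := hq.2 (Finset.mem_of_mem_erase hp) hpq
            exact Finset.ne_of_mem_erase hp (le_antisymm hpq this)
        obtain ⟨j, hj, hjq⟩ := SetLike.not_le_iff_exists.1 hnle
        refine ⟨i + j, I.add_mem hi hj.1, fun p hp => ?_⟩
        by_cases hpq : p = q
        · subst hpq
          rw [← add_assoc]
          intro hc
          exact hjq ((Ideal.add_mem_iff_right p haq).1 hc)
        · have hpe : p ∈ P.erase q := Finset.mem_erase.2 ⟨hpq, hp⟩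
          have hjp : j ∈ p := (Finset.inf_le (f := id) hpe) hj.2
          rw [← add_assoc]
          intro hc
          exact hi' p hpe ((Ideal.add_mem_iff_left p hjp).1 hc)
      · refine ⟨i, hi, fun p hp => ?_⟩
        by_cases hpq : p = q
        · subst hpq; exact haq
        · exact hi' p (Finset.mem_erase.2 ⟨hpq, hp⟩)
    · rw [Finset.not_nonempty_iff_eq_empty] at hne
      subst hne
      exact ⟨0, I.zero_mem, by simp⟩

open PrimeSpectrum

/-- A function congruent to `a` modulo `I` and not vanishing at a finite set of points away from `V(I)`. -/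
theorem exists_lift_nonvanishing {R : Type*} [CommRing R] (I : Ideal R) (a : R) (F : Set (PrimeSpectrum R))
    (hF : F.Finite) (h : ∀ p ∈ F, p ∉ zeroLocus (I : Set R)) :
    ∃ f : R, f - a ∈ I ∧ ∀ p ∈ F, f ∉ p.asIdeal := by
  classical
  obtain ⟨i, hi, hi'⟩ := exists_add_notMem I a (hF.toFinset.image PrimeSpectrum.asIdeal)
    (by
      intro p hp
      obtain ⟨x, -, rfl⟩ := Finset.mem_image.1 hp
      exact x.2)
    (by
      intro p hp
      obtain ⟨x, hx, rfl⟩ := Finset.mem_image.1 hp
      intro hle
      exact h x (by simpa using hx) hle)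
  exact ⟨a + i, by simpa using hi, fun p hp => hi' _ (Finset.mem_image_of_mem _ (by simpa using hp))⟩

/-- A function vanishing on a closed set `T`, and not vanishing on a disjoint closed set `G` nor at a finite set
of points outside `T`. -/
theorem exists_vanishing {R : Type*} [CommRing R] (T G F : Set (PrimeSpectrum R)) (hT : IsClosed T)
    (hG : IsClosed G) (hF : F.Finite) (hTG : Disjoint T G) (hTF : Disjoint T F) :
    ∃ f : R, (∀ p ∈ T, f ∈ p.asIdeal) ∧ (∀ p ∈ G, f ∉ p.asIdeal) ∧ (∀ p ∈ F, f ∉ p.asIdeal) := by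
  have hsup : vanishingIdeal T ⊔ vanishingIdeal G = ⊤ := by
    rw [← zeroLocus_empty_iff_eq_top, zeroLocus_sup, zeroLocus_vanishingIdeal_eq_closure,
      zeroLocus_vanishingIdeal_eq_closure, hT.closure_eq, hG.closure_eq]
    exact hTG.inter_eq
  obtain ⟨a, ha, b, hb, hab⟩ := Submodule.mem_sup.1 ((Ideal.eq_top_iff_one _).1 hsup)
  obtain ⟨f, hf, hf'⟩ := exists_lift_nonvanishing (vanishingIdeal T ⊓ vanishingIdeal G) a (F \ G)
    (hF.subset Set.sdiff_subset) (by
      intro p hp hmem
      have h1 : vanishingIdeal T ⊓ vanishingIdeal G ≤ p.asIdeal := hmem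
      rcases (p.2.inf_le).1 h1 with h2 | h2
      · have : p ∈ zeroLocus (vanishingIdeal T : Set R) := h2
        rw [zeroLocus_vanishingIdeal_eq_closure, hT.closure_eq] at this
        exact Set.disjoint_left.1 hTF this hp.1
      · have : p ∈ zeroLocus (vanishingIdeal G : Set R) := h2
        rw [zeroLocus_vanishingIdeal_eq_closure, hG.closure_eq] at this
        exact hp.2 this)
  have hfT : f ∈ vanishingIdeal T := by
    have := (vanishingIdeal T).add_mem hf.1 ha
    simpa using this
  have hfG : ∀ p ∈ G, f ∉ p.asIdeal := by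
    intro p hp hfp
    have h1 : f - a ∈ p.asIdeal := (mem_vanishingIdeal _ _).1 hf.2 p hp
    have h2 : a ∈ p.asIdeal := by
      have := p.asIdeal.sub_mem hfp h1
      simpa using this
    have h3 : b ∈ p.asIdeal := (mem_vanishingIdeal _ _).1 hb p hp
    exact p.2.ne_top ((Ideal.eq_top_iff_one _).2 (hab ▸ p.asIdeal.add_mem h2 h3))
  refine ⟨f, fun p hp => (mem_vanishingIdeal _ _).1 hfT p hp, hfG, fun p hp => ?_⟩
  by_cases hpG : p ∈ G
  · exact hfG p hpG
  · exact hf' p ⟨hp, hpG⟩

end K650.Avoid
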