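import Mathlib
import Groth.Agent.S5212

set_option autoImplicit false
universe u
open CategoryTheory CategoryTheory.Limits AlgebraicGeometry

namespace K650.NormLoc

/-- Norms, locally on the base: for `B` finite, flat and finitely presented over `R` and `h ∈ B`, near
any prime `p` the locus of primes having a prime above them containing `h` is `V(a)`. -/
theorem nalg {R B : Type u} [CommRing R] [CommRing B] [Algebra R B] [Module.Finite R B]
    [Module.Flat R B] [Algebra.FinitePresentation R B] (h : B) (p : PrimeSpectrum R) :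
    ∃ r : R, r ∉ p.asIdeal ∧ ∃ a : R, ∀ p' : PrimeSpectrum R, r ∉ p'.asIdeal →
      (a ∈ p'.asIdeal ↔ ∃ P : PrimeSpectrum B,
        P.comap (algebraMap R B) = p' ∧ h ∈ P.asIdeal) := by
  classical
  have hfp : Module.FinitePresentation R B := .of_finite_of_finitePresentation R B
  let Rp := Localization.AtPrime p.asIdeal
  let Bp := LocalizedModule p.asIdeal.primeCompl B
  have hfin : Module.Finite Rp Bp :=
    Module.Finite.of_isLocalizedModule p.asIdeal.primeCompl
      (LocalizedModule.mkLinearMap p.asIdeal.primeCompl B)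
  have hflat : Module.Flat Rp Bp := by
    exact Module.Flat.localizedModule p.asIdeal.primeCompl
  have : Module.Free Rp Bp := Module.free_of_flat_of_isLocalRing
  obtain ⟨r, hr, hfree, -⟩ := Module.FinitePresentation.exists_free_localizedModule_powers
    p.asIdeal.primeCompl (LocalizedModule.mkLinearMap p.asIdeal.primeCompl B) Rp
  refine ⟨r, hr, ?_⟩
  let M : Submonoid R := Submonoid.powers r
  let Rr := Localization M
  let Br := Localization (Algebra.algebraMapSubmonoid B M)
  have hloc : IsLocalizedModule M (IsScalarTower.toAlgHom R B Br).toLinearMap :=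
    isLocalizedModule_iff_isLocalization.mpr inferInstance
  have e0 : LocalizedModule M B ≃ₗ[R] Br :=
    IsLocalizedModule.iso M (IsScalarTower.toAlgHom R B Br).toLinearMap
  have e : LocalizedModule M B ≃ₗ[Rr] Br := by
    exact e0.extendScalarsOfIsLocalization M Rr
  have hfree' : Module.Free Rr (LocalizedModule M B) := hfree
  have hf : Module.Free Rr Br := Module.Free.of_equiv e
  have hfinr : Module.Finite Rr (LocalizedModule M B) :=
    Module.Finite.of_isLocalizedModule M (LocalizedModule.mkLinearMap M B)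
  have hfi : Module.Finite Rr Br := Module.Finite.equiv e
  obtain ⟨⟨a, s⟩, has⟩ := IsLocalization.surj M (Algebra.norm Rr (algebraMap B Br h))
  refine ⟨a, fun p' hp' => ?_⟩
  have hdisj : Disjoint (M : Set R) (p'.asIdeal : Set R) := by
    rw [Set.disjoint_left]
    rintro x ⟨n, rfl⟩ hx
    exact hp' (p'.isPrime.mem_of_pow_mem n hx)
  let q' : Ideal Rr := p'.asIdeal.map (algebraMap R Rr)
  have hq' : q'.IsPrime := IsLocalization.isPrime_of_isPrime_disjoint M Rr _ p'.isPrime hdisj
  have hcomap : q'.comap (algebraMap R Rr) = p'.asIdeal :=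
    IsLocalization.under_map_of_isPrime_disjoint M Rr p'.isPrime hdisj
  have hs : algebraMap R Rr s.1 ∉ q' := fun hmem => by
    have : s.1 ∈ p'.asIdeal := by rw [← hcomap]; exact hmem
    exact Set.disjoint_left.1 hdisj s.2 this
  have h1 : a ∈ p'.asIdeal ↔ Algebra.norm Rr (algebraMap B Br h) ∈ q' := by
    have : a ∈ p'.asIdeal ↔ algebraMap R Rr a ∈ q' := by
      conv_lhs => rw [← hcomap]
      rfl
    rw [this, ← has]
    constructor
    · intro hh
      exact (hq'.mem_or_mem hh).resolve_right hs
    · intro hh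
      exact q'.mul_mem_right _ hh
  rw [h1, ← Groth.Agent.S5212.result q' (algebraMap B Br h)]
  constructor
  · rintro ⟨Q, hQ, hQq, hh⟩
    refine ⟨⟨Q.comap (algebraMap B Br), inferInstance⟩, ?_, hh⟩
    apply PrimeSpectrum.ext
    change (Q.comap (algebraMap B Br)).comap (algebraMap R B) = p'.asIdeal
    rw [Ideal.comap_comap, ← IsScalarTower.algebraMap_eq, ← hcomap, hQq.over,
      IsScalarTower.algebraMap_eq R Rr Br, ← Ideal.comap_comap]
  · rintro ⟨P, hP, hh⟩
    have hd : Disjoint (Algebra.algebraMapSubmonoid B M : Set B) (P.asIdeal : Set B) := by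
      rw [Set.disjoint_left]
      rintro x ⟨y, hy, rfl⟩ hx
      have : y ∈ p'.asIdeal := by rw [← hP]; exact hx
      exact Set.disjoint_left.1 hdisj hy this
    have hpr := IsLocalization.isPrime_of_isPrime_disjoint (Algebra.algebraMapSubmonoid B M) Br _
      P.isPrime hd
    have hcm : (P.asIdeal.map (algebraMap B Br)).comap (algebraMap B Br) = P.asIdeal :=
      IsLocalization.under_map_of_isPrime_disjoint (Algebra.algebraMapSubmonoid B M) Br
        P.isPrime hd
    refine ⟨P.asIdeal.map (algebraMap B Br), hpr, ⟨?_⟩, Ideal.mem_map_of_mem _ hh⟩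
    have hc : ((P.asIdeal.map (algebraMap B Br)).under Rr).comap (algebraMap R Rr) =
        p'.asIdeal := by
      change ((P.asIdeal.map (algebraMap B Br)).comap (algebraMap Rr Br)).comap (algebraMap R Rr) = _
      rw [Ideal.comap_comap, ← IsScalarTower.algebraMap_eq, IsScalarTower.algebraMap_eq R B Br,
        ← Ideal.comap_comap, hcm, ← hP]
      rfl
    have := IsLocalization.map_under M Rr ((P.asIdeal.map (algebraMap B Br)).under Rr)
    rw [← this]
    change (p'.asIdeal).map _ = Ideal.map _ (((P.asIdeal.map (algebraMap B Br)).under Rr).comap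
      (algebraMap R Rr))
    rw [hc]

/-- Membership in a basic open in terms of `fromSpec`. -/
theorem fromSpec_mem_basicOpen {X : Scheme.{u}} {U : X.Opens} (hU : IsAffineOpen U) (f : Γ(X, U))
    (P : Spec Γ(X, U)) : hU.fromSpec P ∈ X.basicOpen f ↔ f ∉ P.asIdeal := by
  have h := hU.fromSpec_preimage_basicOpen f
  have h2 : P ∈ (hU.fromSpec ⁻¹ᵁ X.basicOpen f) ↔ P ∈ PrimeSpectrum.basicOpen f := by
    rw [h]; rfl
  exact h2

theorem exists_basicOpen {Q N : Scheme.{u}} (q : Q ⟶ N) [IsFinite q] [Flat q]
    [LocallyOfFinitePresentation q] (h : Γ(Q, ⊤)) (v : N) :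
    ∃ (A : N.Opens) (_ : IsAffineOpen A) (_ : v ∈ A) (a : Γ(N, A)),
      ∀ n ∈ A, (n ∈ N.basicOpen a ↔ ∀ w : Q, q w = n → w ∈ Q.basicOpen h) := by
  obtain ⟨U, hU, hvU, -⟩ := exists_isAffineOpen_mem_and_subset (X := N) (x := v) (U := ⊤) trivial
  let V : Q.Opens := q ⁻¹ᵁ U
  have hV : IsAffineOpen V := hU.preimage q
  algebraize [(q.app U).hom]
  have hfin : Module.Finite Γ(N, U) Γ(Q, V) := by
    exact IsFinite.finite_app q U hU
  have e0 : q.appLE U V le_rfl = q.app U := by simp [Scheme.Hom.appLE, V]
  have hfp : Algebra.FinitePresentation Γ(N, U) Γ(Q, V) := by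
    have := LocallyOfFinitePresentation.finitePresentation_appLE q hU hV le_rfl
    rw [e0] at this
    exact this
  have hfl : Module.Flat Γ(N, U) Γ(Q, V) := by
    have := Flat.flat_appLE q hU hV le_rfl
    rw [e0] at this
    exact this
  let hh : Γ(Q, V) := Q.presheaf.map (homOfLE le_top).op h
  obtain ⟨r, hr, a, ha⟩ := nalg (R := Γ(N, U)) (B := Γ(Q, V)) hh (hU.primeIdealOf ⟨v, hvU⟩)
  have key : ∀ P : Spec Γ(Q, V), q (hV.fromSpec P) =
      hU.fromSpec (Spec.map (q.app U) P) := by
    intro P
    have := IsAffineOpen.SpecMap_appLE_fromSpec q hU hV le_rfl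
    rw [e0] at this
    rw [← Scheme.Hom.comp_apply, ← Scheme.Hom.comp_apply, this]
  refine ⟨N.basicOpen r, hU.basicOpen r, ?_, N.presheaf.map (homOfLE (N.basicOpen_le r)).op a, ?_⟩
  · have : hU.fromSpec (hU.primeIdealOf ⟨v, hvU⟩) = v := hU.fromSpec_primeIdealOf ⟨v, hvU⟩
    rw [← this]
    exact (fromSpec_mem_basicOpen hU r _).2 hr
  · intro n hn
    have hnU : n ∈ U := N.basicOpen_le r hn
    obtain ⟨p', rfl⟩ : ∃ p', hU.fromSpec p' = n := ⟨_, hU.fromSpec_primeIdealOf ⟨n, hnU⟩⟩
    rw [fromSpec_mem_basicOpen] at hn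
    have h1 := ha p' hn
    have h2 : hU.fromSpec p' ∈ N.basicOpen (N.presheaf.map (homOfLE (N.basicOpen_le r)).op a) ↔
        a ∉ p'.asIdeal := by
      rw [Scheme.basicOpen_res, ← fromSpec_mem_basicOpen hU]
      constructor
      · exact fun h => h.2
      · exact fun h => ⟨(fromSpec_mem_basicOpen hU r p').2 hn, h⟩
    rw [h2, h1]
    constructor
    · intro hno w hw
      have hwV : w ∈ V := by
        change q w ∈ U
        rw [hw]; exact hnU
      obtain ⟨P, rfl⟩ : ∃ P, hV.fromSpec P = w := ⟨_, hV.fromSpec_primeIdealOf ⟨w, hwV⟩⟩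
      rw [key] at hw
      have hw' := hU.fromSpec.isOpenEmbedding.injective hw
      have h3 : hV.fromSpec P ∈ Q.basicOpen hh := by
        rw [fromSpec_mem_basicOpen]
        intro hcon
        exact hno ⟨P, hw', hcon⟩
      rw [Scheme.basicOpen_res] at h3
      exact h3.2
    · rintro hall ⟨P, hP, hcon⟩
      have h3 := hall (hV.fromSpec P) ((key P).trans (congrArg hU.fromSpec hP))
      have h4 : hV.fromSpec P ∈ Q.basicOpen hh := by
        rw [Scheme.basicOpen_res]
        refine ⟨?_, h3⟩
        have := hV.range_fromSpec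
        have h5 : hV.fromSpec P ∈ Set.range hV.fromSpec := ⟨P, rfl⟩
        rw [this] at h5
        exact h5
      exact (fromSpec_mem_basicOpen hV hh P).1 h4 hcon

end K650.NormLoc
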