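import Mathlib
import Groth.Agent.AlgSp.K650.NormLoc

set_option autoImplicit false
universe u
open CategoryTheory CategoryTheory.Limits AlgebraicGeometry

namespace K650.SatSch

/-- An open subscheme `O` of an affine open `V` is affine if every point of `V` has an affine open
neighbourhood `A ≤ V` with `A ⊓ O` affine. -/
theorem isAffineOpen_of_local {X : Scheme.{u}} {V O : X.Opens} (hV : IsAffineOpen V) (hOV : O ≤ V)
    (h : ∀ v ∈ V, ∃ A : X.Opens, v ∈ A ∧ A ≤ V ∧ IsAffineOpen A ∧ IsAffineOpen (A ⊓ O)) :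
    IsAffineOpen O := by
  have hVa : IsAffine V.toScheme := hV
  have : IsAffineHom (X.homOfLE hOV) := by
    apply isAffineHom_of_forall_exists_isAffineOpen
    intro v
    obtain ⟨A, hvA, hAV, hA, hAO⟩ := h v.1 v.2
    refine ⟨V.ι ⁻¹ᵁ A, hvA, hA.preimage_of_isOpenImmersion V.ι (by simpa using hAV), ?_⟩
    have e : X.homOfLE hOV ⁻¹ᵁ (V.ι ⁻¹ᵁ A) = O.ι ⁻¹ᵁ (A ⊓ O) := by
      rw [← Scheme.Hom.comp_preimage, Scheme.homOfLE_ι]
      ext x
      exact ⟨fun h => ⟨h, x.2⟩, fun h => h.1⟩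
    rw [e]
    exact hAO.preimage_of_isOpenImmersion O.ι (by simp)
  exact isAffine_of_isAffineHom (X.homOfLE hOV)

/-- The scheme-theoretic heart of the saturation step: an open `O` inside the basic open `D(f)` of an
affine open `V` is affine, if near every point of `D(f)` outside `O` the condition to be in `O` is that the
function `q2^* f` vanishes nowhere on the fibre of the finite flat morphism `q1`. -/
theorem isAffineOpen_of_norm {X Q : Scheme.{u}} (q1 q2 : Q ⟶ X) [IsFinite q1] {V : X.Opens}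
    (hV : IsAffineOpen V) (f : Γ(X, V)) (O : X.Opens) (hO : O ≤ X.basicOpen f)
    (h : ∀ v ∈ X.basicOpen f, v ∉ O → ∃ N : X.Opens, v ∈ N ∧ N ≤ X.basicOpen f ∧
      Flat (q1 ∣_ N) ∧ LocallyOfFinitePresentation (q1 ∣_ N) ∧ (∀ w, q1 w ∈ N → q2 w ∈ V) ∧
      ∀ n ∈ N, (n ∈ O ↔ ∀ w, q1 w = n → q2 w ∈ X.basicOpen f)) :
    IsAffineOpen O := by
  refine isAffineOpen_of_local (hV.basicOpen f) hO fun v hv => ?_
  by_cases hvO : v ∈ O
  · obtain ⟨A, hA, hvA, hAO⟩ := exists_isAffineOpen_mem_and_subset (X := X) (x := v) (U := O) hvO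
    refine ⟨A, hvA, le_trans hAO hO, hA, ?_⟩
    have : A ⊓ O = A := inf_eq_left.2 hAO
    rwa [this]
  obtain ⟨N, hvN, hNV, hfl, hfp, hq2, hNO⟩ := h v hv hvO
  have hle : (⊤ : (q1 ⁻¹ᵁ N).toScheme.Opens) ≤ ((q1 ⁻¹ᵁ N).ι ≫ q2) ⁻¹ᵁ V := by
    intro w _
    exact hq2 w.1 w.2
  let hh : Γ((q1 ⁻¹ᵁ N).toScheme, ⊤) := ((q1 ⁻¹ᵁ N).ι ≫ q2).appLE V ⊤ hle f
  have hfin : IsFinite (q1 ∣_ N) := inferInstance
  obtain ⟨A, hA, hvA, a, ha⟩ := NormLoc.exists_basicOpen (q1 ∣_ N) hh ⟨v, hvN⟩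
  have hbo : ∀ w : (q1 ⁻¹ᵁ N).toScheme, w ∈ (q1 ⁻¹ᵁ N).toScheme.basicOpen hh ↔
      q2 w.1 ∈ X.basicOpen f := by
    intro w
    have : (q1 ⁻¹ᵁ N).toScheme.basicOpen hh = ⊤ ⊓ ((q1 ⁻¹ᵁ N).ι ≫ q2) ⁻¹ᵁ X.basicOpen f :=
      Scheme.basicOpen_appLE _ _ _ hle f
    rw [this, top_inf_eq]
    rfl
  have key : ∀ n ∈ A, (n ∈ N.toScheme.basicOpen a ↔ n.1 ∈ O) := by
    intro n hn
    rw [ha n hn, hNO n.1 n.2]
    constructor
    · intro H w hw
      have hwN : w ∈ q1 ⁻¹ᵁ N := by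
        change q1 w ∈ N
        rw [hw]; exact n.2
      have h2 : (q1 ∣_ N) ⟨w, hwN⟩ = n := by
        apply Subtype.ext
        exact (morphismRestrict_base_coe q1 N ⟨w, hwN⟩).trans hw
      exact (hbo ⟨w, hwN⟩).1 (H _ h2)
    · intro H w hw
      rw [hbo]
      apply H
      rw [← hw]
      exact (morphismRestrict_base_coe q1 N w).symm
  refine ⟨N.ι ''ᵁ A, ⟨⟨v, hvN⟩, hvA, rfl⟩, ?_, hA.image_of_isOpenImmersion _, ?_⟩
  · rintro _ ⟨n, -, rfl⟩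
    exact hNV n.2
  · have e : N.ι ''ᵁ A ⊓ O = N.ι ''ᵁ (N.toScheme.basicOpen a) := by
      ext x
      constructor
      · rintro ⟨⟨n, hn, rfl⟩, hxO⟩
        exact ⟨n, (key n hn).2 hxO, rfl⟩
      · rintro ⟨n, hn, rfl⟩
        have hnA := N.toScheme.basicOpen_le a hn
        exact ⟨⟨n, hnA, rfl⟩, (key n hnA).1 hn⟩
    rw [e]
    exact (hA.basicOpen a).image_of_isOpenImmersion _

end K650.SatSch
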