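import Mathlib
import Groth.Agent.AlgSp.K650.Avoid
import Groth.Agent.AlgSp.K650.SatSch

set_option autoImplicit false
universe u v
open CategoryTheory CategoryTheory.Limits AlgebraicGeometry

namespace K650.SatTop

/-- Functions on an affine open with prescribed vanishing and nonvanishing. -/
theorem exists_section {X : Scheme.{u}} {V : X.Opens} (hV : IsAffineOpen V) (T G F : Set X)
    (hT : IsClosed T) (hG : IsClosed G) (hF : F.Finite)
    (hTG : ∀ x ∈ V, x ∈ T → x ∉ G) (hTF : ∀ x ∈ V, x ∈ T → x ∉ F) :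
    ∃ f : Γ(X, V), (∀ x ∈ V, x ∈ T → x ∉ X.basicOpen f) ∧
      (∀ x ∈ V, x ∈ G → x ∈ X.basicOpen f) ∧ (∀ x ∈ V, x ∈ F → x ∈ X.basicOpen f) := by
  have hr : ∀ P : Spec Γ(X, V), hV.fromSpec P ∈ V := by
    intro P
    have h5 : hV.fromSpec P ∈ Set.range hV.fromSpec := ⟨P, rfl⟩
    rw [hV.range_fromSpec] at h5
    exact h5
  have hs : ∀ x ∈ V, ∃ P : Spec Γ(X, V), hV.fromSpec P = x := fun x hx =>
    ⟨_, hV.fromSpec_primeIdealOf ⟨x, hx⟩⟩
  obtain ⟨f, h1, h2, h3⟩ := Avoid.exists_vanishing (R := Γ(X, V))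
    (hV.fromSpec ⁻¹' T) (hV.fromSpec ⁻¹' G) (hV.fromSpec ⁻¹' F)
    (hT.preimage hV.fromSpec.continuous) (hG.preimage hV.fromSpec.continuous)
    (hF.preimage hV.fromSpec.isOpenEmbedding.injective.injOn)
    (by
      rw [Set.disjoint_left]
      intro P hP hP'
      exact hTG _ (hr P) hP hP')
    (by
      rw [Set.disjoint_left]
      intro P hP hP'
      exact hTF _ (hr P) hP hP')
  refine ⟨f, ?_, ?_, ?_⟩
  · intro x hx hxT
    obtain ⟨P, rfl⟩ := hs x hx
    rw [NormLoc.fromSpec_mem_basicOpen]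
    exact fun h => h (h1 P hxT)
  · intro x hx hxG
    obtain ⟨P, rfl⟩ := hs x hx
    rw [NormLoc.fromSpec_mem_basicOpen]
    exact h2 P hxG
  · intro x hx hxF
    obtain ⟨P, rfl⟩ := hs x hx
    rw [NormLoc.fromSpec_mem_basicOpen]
    exact h3 P hxF

theorem restrict_of_le (P : MorphismProperty Scheme.{u}) [P.IsStableUnderBaseChange]
    {X Y : Scheme.{u}} (f : X ⟶ Y) {U V : Y.Opens} (h : P (f ∣_ U)) (hVU : V ≤ U) : P (f ∣_ V) := by
  have sq : IsPullback (f ∣_ V) (X.homOfLE (f.preimage_mono hVU)) (Y.homOfLE hVU) (f ∣_ U) := by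
    refine IsPullback.of_bot (h₁₁ := f ∣_ V) (h₂₁ := f ∣_ U) (h₃₁ := f)
      (v₁₁ := X.homOfLE (f.preimage_mono hVU)) (v₁₂ := Y.homOfLE hVU)
      (v₂₁ := (f ⁻¹ᵁ U).ι) (v₂₂ := U.ι) ?_ (morphismRestrict_homOfLE f V U hVU)
      (isPullback_morphismRestrict f U)
    rw [Scheme.homOfLE_ι, Scheme.homOfLE_ι]
    exact isPullback_morphismRestrict f V
  exact P.of_isPullback sq.flip h

/-- Saturation: `ρ : X → P` closed and continuous with finite equivalence relation `q1, q2 : Q → X`, flat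
over `D`; `V` an affine open whose part away from `D` is saturated; then any finite set of fibres inside `V`
is contained in an affine saturated open. -/
theorem exists_saturated {X Q : Scheme.{u}} (q1 q2 : Q ⟶ X) [IsFinite q1]
    {P : Type v} [TopologicalSpace P] (ρ : X → P) (hc : Continuous ρ) (hcl : IsClosedMap ρ)
    (hq : ∀ y y', ρ y = ρ y' ↔ ∃ w, q1 w = y ∧ q2 w = y')
    (D : Set P) (hD : IsOpen D) (DX : X.Opens) (hDX : ∀ y, y ∈ DX ↔ ρ y ∈ D)
    (hflat : Flat (q1 ∣_ DX)) (hlfp : LocallyOfFinitePresentation (q1 ∣_ DX))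
    {V : X.Opens} (hV : IsAffineOpen V)
    (hsat : ∀ y ∈ V, ρ y ∉ D → ∀ y', ρ y' = ρ y → y' ∈ V)
    (E : Set P) (hE : E.Finite) (hEV : ∀ y, ρ y ∈ E → y ∈ V) :
    ∃ A : Set P, IsOpen A ∧ E ⊆ A ∧ ∃ O : X.Opens, (∀ y, y ∈ O ↔ ρ y ∈ A) ∧ IsAffineOpen O ∧
      O ≤ V := by
  -- the points whose whole fibre lies in `V`
  let A3 : Set P := (ρ '' ((V : Set X)ᶜ))ᶜ
  have hA3 : IsOpen A3 := (hcl _ V.isOpen.isClosed_compl).isOpen_compl
  have hA3V : ∀ y, ρ y ∈ A3 → y ∈ V := by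
    intro y hy
    by_contra hyV
    exact hy ⟨y, hyV, rfl⟩
  have hfin : (ρ ⁻¹' E).Finite := by
    have hpt : ∀ x : P, (ρ ⁻¹' {x}).Finite := by
      intro x
      by_cases hx : ∃ y, ρ y = x
      · obtain ⟨y0, rfl⟩ := hx
        have h1 : (ρ ⁻¹' {ρ y0}) ⊆ q2 '' (q1 ⁻¹' {y0}) := by
          intro y hy
          obtain ⟨w, hw1, hw2⟩ := (hq y0 y).1 (by simpa using hy.symm)
          exact ⟨w, hw1, hw2⟩
        exact ((q1.finite_preimage_singleton y0).image _).subset h1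
      · have : ρ ⁻¹' {x} = ∅ := by
          ext y
          simp only [Set.mem_preimage, Set.mem_singleton_iff, Set.mem_empty_iff_false, iff_false]
          exact fun h => hx ⟨y, h⟩
        rw [this]
        exact Set.finite_empty
    have : ρ ⁻¹' E = ⋃ x ∈ E, ρ ⁻¹' {x} := by
      ext y
      simp
    rw [this]
    exact hE.biUnion fun x _ => hpt x
  obtain ⟨f, hf1, hf2, hf3⟩ := exists_section hV ((ρ ⁻¹' A3)ᶜ) (ρ ⁻¹' Dᶜ) (ρ ⁻¹' E)
    (hA3.preimage hc).isClosed_compl (hD.isClosed_compl.preimage hc) hfin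
    (by
      intro y hyV hyT hyG
      apply hyT
      rintro ⟨y', hy'V, hy'⟩
      exact hy'V (hsat y hyV hyG y' hy'))
    (by
      intro y hyV hyT hyF
      apply hyT
      rintro ⟨y', hy'V, hy'⟩
      have : ρ y' ∈ E := by
        rw [hy']; exact hyF
      exact hy'V (hEV y' this))
  have hfA3 : ∀ y ∈ X.basicOpen f, ρ y ∈ A3 := by
    intro y hy
    by_contra hcon
    exact hf1 y (X.basicOpen_le f hy) hcon hy
  let A4 : Set P := (ρ '' ((X.basicOpen f : Set X)ᶜ))ᶜ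
  have hA4 : IsOpen A4 := (hcl _ (X.basicOpen f).isOpen.isClosed_compl).isOpen_compl
  let O : X.Opens := ⟨ρ ⁻¹' A4, hA4.preimage hc⟩
  have hO : O ≤ X.basicOpen f := by
    intro y hy
    by_contra hyV
    exact hy ⟨y, hyV, rfl⟩
  refine ⟨A4, hA4, ?_, O, fun y => Iff.rfl, ?_, hO.trans (X.basicOpen_le f)⟩
  · rintro e he ⟨y, hyV, hy⟩
    have hyE : ρ y ∈ E := by
      rw [hy]; exact he
    exact hyV (hf3 y (hEV y hyE) hyE)
  · refine SatSch.isAffineOpen_of_norm q1 q2 hV f O hO fun v hv hvO => ?_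
    have hvO' : ∃ y', y' ∉ X.basicOpen f ∧ ρ y' = ρ v := by
      by_contra hcon
      push Not at hcon
      apply hvO
      rintro ⟨y', hy', hy''⟩
      exact hcon y' hy' hy''
    obtain ⟨y', hy'f, hy'v⟩ := hvO'
    have hvD : ρ v ∈ D := by
      by_contra hvD
      have h1 : y' ∈ V := hsat v (X.basicOpen_le f hv) hvD y' hy'v
      exact hy'f (hf2 y' h1 (by
        change ρ y' ∉ D
        rw [hy'v]; exact hvD))
    refine ⟨X.basicOpen f ⊓ DX, ⟨hv, (hDX v).2 hvD⟩, inf_le_left, ?_, ?_, ?_, ?_⟩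
    · exact restrict_of_le @Flat q1 hflat inf_le_right
    · exact restrict_of_le @LocallyOfFinitePresentation q1 hlfp inf_le_right
    · intro w hw
      apply hA3V
      have : ρ (q2 w) = ρ (q1 w) := ((hq (q1 w) (q2 w)).2 ⟨w, rfl, rfl⟩).symm
      rw [this]
      exact hfA3 _ hw.1
    · intro n hn
      constructor
      · intro hnO w hw
        by_contra hcon
        exact hnO ⟨q2 w, hcon, ((hq n (q2 w)).2 ⟨w, hw, rfl⟩).symm⟩
      · intro H
        rintro ⟨y, hy, hyn⟩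
        obtain ⟨w, hw1, hw2⟩ := (hq n y).1 hyn.symm
        exact hy (hw2 ▸ H w hw1)

end K650.SatTop
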