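import Mathlib
import Groth.Prelude
import Groth.Agent.AlgSp.K650.SatTop
import Groth.Agent.AlgSp.K650.Chev
import Groth.Agent.AlgSp.K610.SchLocus
import Groth.Agent.AlgSp.K610.Noeth
import Groth.Agent.AlgSp.K610.OpenImm
import Groth.Agent.AlgSp.K610.Chart
import Groth.Agent.AlgSp.K596.Univ
import Groth.Agent.AlgSp.K606.RepWithBasic

set_option autoImplicit false
universe u
open CategoryTheory CategoryTheory.Limits AlgebraicGeometry Opposite AlgSp

namespace K650.Sat

variable {S : Scheme.{u}} {X : Sp S}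

/-- The set of points `E` is contained in an affine open subspace of `X`. -/
def InAffine (X : Sp S) (E : Set (Points X)) : Prop :=
  ∃ (T : Over S) (j : (yon S).obj T ⟶ X), IsAffine T.left ∧ RepWith @IsOpenImmersion j ∧
    E ⊆ Set.range (Points.ofPt j)

theorem InAffine.mono {E E' : Set (Points X)} (h : InAffine X E) (hE : E' ⊆ E) : InAffine X E' := by
  obtain ⟨T, j, h1, h2, h3⟩ := h
  exact ⟨T, j, h1, h2, hE.trans h3⟩

/-- transport along an open immersion -/
theorem InAffine.of_open {Z : Sp S} {j : Z ⟶ X} (hj : RepWith @IsOpenImmersion j)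
    {E : Set (Points Z)} (h : InAffine Z E) : InAffine X (Points.map j '' E) := by
  obtain ⟨T, t, h1, h2, h3⟩ := h
  refine ⟨T, t ≫ j, h1, MorphismProperty.comp_mem (RepWith @IsOpenImmersion) _ _ h2 hj, ?_⟩
  rintro _ ⟨e, he, rfl⟩
  obtain ⟨p, rfl⟩ := h3 he
  exact ⟨p, rfl⟩

theorem InAffine.isSch {E : Set (Points X)} (h : InAffine X E) :
    ∃ W, K610.SchLocus.IsSch X W ∧ E ⊆ W := by
  obtain ⟨T, t, h1, h2, h3⟩ := h
  exact ⟨_, ⟨T, t, h2, rfl⟩, h3⟩

theorem isLocNoethSp_of_repWith (hN : IsLocNoethSp X) {Z : Sp S} {j : Z ⟶ X}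
    (hj : RepWith @LocallyOfFiniteType j) : IsLocNoethSp Z := by
  obtain ⟨U, p, hp, hps, hU⟩ := hN
  obtain ⟨V, i, fst, sq⟩ := hj.1 p
  have hi : LocallyOfFiniteType i.left := hj.2 p fst i sq
  refine ⟨V, fst, K606.RepWithBasic.of_isPullback sq.flip hp,
    K606.RepWithBasic.of_isPullback sq.flip hps, ?_⟩
  have : IsLocallyNoetherian U.left := hU
  exact LocallyOfFiniteType.isLocallyNoetherian i.left

theorem isClosedMap_ofPt {X' : Over S} {π : (yon S).obj X' ⟶ X} (hfin : RepWith @IsFinite π) :
    IsClosedMap (Points.ofPt π) := by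
  have h1 : IsClosedMap (Points.map π) := K596.Univ.isClosedMap_of_repWith
    (K596.Univ.repWith_mono (Q := @IsFinite) (Q' := @UniversallyClosed) (fun _ _ f hf => by
      have : IsFinite f := hf
      infer_instance) hfin)
  have h2 : Points.ofPt π = Points.map π ∘ (Points.schemeHomeo X') := by
    ext t
    exact Points.ofPt_eq_map_ofScheme π t
  rw [h2]
  exact h1.comp (Points.schemeHomeo X').isClosedMap

/-- Two open immersions into `Z` with the same range are isomorphic. -/
theorem exists_iso_of_range {Z P P' : Sp S} {j : P ⟶ Z} {j' : P' ⟶ Z} (hj : RepWith @IsOpenImmersion j)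
    (hj' : RepWith @IsOpenImmersion j') (h : Set.range (Points.map j) = Set.range (Points.map j')) :
    ∃ e : P ≅ P', e.hom ≫ j' = j := by
  have := K610.Factor.mono_of_isOpenImmersion hj
  have := K610.Factor.mono_of_isOpenImmersion hj'
  obtain ⟨a, ha⟩ := (K610.Factor.factors_open_iff hj' j).2 h.le
  obtain ⟨b, hb⟩ := (K610.Factor.factors_open_iff hj j').2 h.ge
  refine ⟨⟨a, b, ?_, ?_⟩, ha⟩
  · rw [← cancel_mono j, Category.assoc, hb, ha, Category.id_comp]
  · rw [← cancel_mono j', Category.assoc, ha, hb, Category.id_comp]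

/-- If `π : Z ⟶ X` is finite surjective, `A` is open in `|X|` and its preimage in `|Z|` is carried by an affine
open subspace, then `A` is an affine open of `X` (by Chevalley's theorem). -/
theorem inAffine_of_cover (hX : IsAlgSpace X) (hN : IsLocNoethSp X) {Z : Sp S}
    {π : Z ⟶ X} (hfin : RepWith @IsFinite π) (hsurj : RepWith @Surjective π)
    {A : Set (Points X)} (hA : IsOpen A) {T : Over S} {j : (yon S).obj T ⟶ Z} (hT : IsAffine T.left)
    (hj : RepWith @IsOpenImmersion j) (hr : Set.range (Points.ofPt j) = Points.map π ⁻¹' A) :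
    InAffine X A := by
  have hι := K610.Sub.repWith_openPred hA
  have hmono := K610.Factor.mono_of_isOpenImmersion hι
  have sq : IsPullback (pullback.fst (K610.Sub.openPred A).ι π)
    (pullback.snd (K610.Sub.openPred A).ι π) (K610.Sub.openPred A).ι π := IsPullback.of_hasPullback _ _
  have hsnd : RepWith @IsOpenImmersion (pullback.snd (K610.Sub.openPred A).ι π) :=
    K606.RepWithBasic.of_isPullback sq hι
  have hr' : Set.range (Points.map j) =
      Set.range (Points.map (pullback.snd (K610.Sub.openPred A).ι π)) := by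
    rw [← K610.SchLocus.range_ofPt, hr]
    ext z
    constructor
    · intro hz
      have hz' : Points.map π z ∈ Set.range (Points.map (K610.Sub.openPred A).ι) := by
        rw [K610.Sub.range_openPred]; exact hz
      obtain ⟨x, hx⟩ := hz'
      obtain ⟨q, -, hq⟩ := K610.Base.exists_of_isPullback sq x z hx
      exact ⟨q, hq⟩
    · rintro ⟨q, rfl⟩
      have h1 : Points.map π (Points.map (pullback.snd (K610.Sub.openPred A).ι π) q) =
          Points.map (K610.Sub.openPred A).ι
            (Points.map (pullback.fst (K610.Sub.openPred A).ι π) q) := by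
        rw [← Points.map_comp, ← Points.map_comp, sq.w]
      have h2 : Points.map (K610.Sub.openPred A).ι
            (Points.map (pullback.fst (K610.Sub.openPred A).ι π) q) ∈
          Set.range (Points.map (K610.Sub.openPred A).ι) := ⟨_, rfl⟩
      rw [K610.Sub.range_openPred, ← h1] at h2
      exact h2
  obtain ⟨e, he⟩ := exists_iso_of_range hj hsnd hr'
  have h1 : RepWith @IsFinite (e.hom ≫ pullback.fst (K610.Sub.openPred A).ι π) :=
    K606.RepWithBasic.precomp_iso e (K606.RepWithBasic.of_isPullback sq.flip hfin)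
  have h2 : RepWith @Surjective (e.hom ≫ pullback.fst (K610.Sub.openPred A).ι π) :=
    K606.RepWithBasic.precomp_iso e (K606.RepWithBasic.of_isPullback sq.flip hsurj)
  have hsub : IsAlgSpace (K610.Sub.openPred A).sub := K610.Sub.isAlgSpace_of_mono hι.1 hX
  have hNsub : IsLocNoethSp (K610.Sub.openPred A).sub :=
    isLocNoethSp_of_repWith hN (K596.Univ.repWith_mono (Q := @IsOpenImmersion) (fun _ _ f hf => by
      have : IsOpenImmersion f := hf
      infer_instance) hι)
  obtain ⟨T', hT', ⟨e'⟩⟩ := Chev.chev hsub hNsub h1 h2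
  refine ⟨T', e'.hom ≫ (K610.Sub.openPred A).ι, hT',
    MorphismProperty.comp_mem (RepWith @IsOpenImmersion) _ _ (K610.SchLocus.repWith_iso e') hι, ?_⟩
  rw [K610.SchLocus.range_comp_of_surjective _ _ (K610.SchLocus.surjective_ofPt_iso e'),
    K610.Sub.range_openPred]

/-- If `A` is open in `|X|` and `ρ⁻¹(A)` is an affine open of `X'`, then the open subspace `A` is affine
(by Chevalley's theorem). -/
theorem inAffine_of_preimage (hX : IsAlgSpace X) (hN : IsLocNoethSp X) {X' : Over S}
    {π : (yon S).obj X' ⟶ X} (hfin : RepWith @IsFinite π) (hsurj : RepWith @Surjective π)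
    {A : Set (Points X)} (hA : IsOpen A) {O : X'.left.Opens} (hO : ∀ y, y ∈ O ↔ Points.ofPt π y ∈ A)
    (hOa : IsAffineOpen O) : InAffine X A := by
  let T : Over S := Over.mk (O.ι ≫ X'.hom)
  let j : T ⟶ X' := Over.homMk O.ι rfl
  have hj : RepWith @IsOpenImmersion ((yon S).map j) := by
    rw [repWith_yon_map_iff]
    change IsOpenImmersion O.ι
    infer_instance
  refine inAffine_of_cover hX hN hfin hsurj hA (T := T) (j := (yon S).map j) hOa hj ?_
  ext z
  obtain ⟨y, rfl⟩ := (Points.schemeEquiv X').surjective z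
  have h1 : Points.map π (Points.schemeEquiv X' y) = Points.ofPt π y :=
    (Points.ofPt_eq_map_ofScheme π y).symm
  rw [Set.mem_preimage, h1, ← hO]
  constructor
  · rintro ⟨t, ht⟩
    have h2 : Points.ofPt ((yon S).map j) t = Points.ofScheme X' (j.left t) :=
      K609.Points.ofPt_yon_map j t
    rw [h2] at ht
    have := (Points.schemeEquiv X').injective ht
    rw [← this]
    exact t.2
  · intro hy
    exact ⟨⟨y, hy⟩, K609.Points.ofPt_yon_map j _⟩

/-- The relation `ρ y = ρ y'` for `ρ = ofPt π` in terms of the fibre square of `π`. -/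
theorem ofPt_eq_iff {X' Q : Over S} {π : (yon S).obj X' ⟶ X} {q1 q2 : Q ⟶ X'}
    (sq : IsPullback ((yon S).map q1) ((yon S).map q2) π π) (y y' : X'.left) :
    Points.ofPt π y = Points.ofPt π y' ↔ ∃ w, q1.left w = y ∧ q2.left w = y' :=
  K609.Points.ofPt_eq_ofPt_iff sq y y'

/-- The saturation step. -/
theorem inAffine_of_sat (hX : IsAlgSpace X) (hN : IsLocNoethSp X) {X' Q : Over S}
    {π : (yon S).obj X' ⟶ X} (hfin : RepWith @IsFinite π) (hsurj : RepWith @Surjective π)
    {q1 q2 : Q ⟶ X'} (sq : IsPullback ((yon S).map q1) ((yon S).map q2) π π)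
    (D : Set (Points X)) (hD : IsOpen D) (DX : X'.left.Opens)
    (hDX : ∀ y, y ∈ DX ↔ Points.ofPt π y ∈ D)
    (hflat : Flat (q1.left ∣_ DX)) (hlfp : LocallyOfFinitePresentation (q1.left ∣_ DX))
    {V : X'.left.Opens} (hV : IsAffineOpen V)
    (hsat : ∀ y ∈ V, Points.ofPt π y ∉ D → ∀ y', Points.ofPt π y' = Points.ofPt π y → y' ∈ V)
    (E : Set (Points X)) (hE : E.Finite) (hEV : ∀ y, Points.ofPt π y ∈ E → y ∈ V) :
    InAffine X E := by
  have hq1 : IsFinite q1.left := hfin.2 π ((yon S).map q2) q1 sq.flip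
  obtain ⟨A, hA, hEA, O, hO, hOa, -⟩ := SatTop.exists_saturated q1.left q2.left (Points.ofPt π)
    (Points.continuous_ofPt π) (isClosedMap_ofPt hfin) (ofPt_eq_iff sq) D hD DX hDX hflat hlfp hV
    hsat E hE hEV
  exact (inAffine_of_preimage hX hN hfin hsurj hA hO hOa).mono hEA

end K650.Sat
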