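import Mathlib
import Groth.Prelude
import Groth.Agent.S0414
import Groth.Agent.AlgSp.K650.Sat
import Groth.Agent.AlgSp.K595.DescInst
import Groth.Agent.AlgSp.K596.QC

set_option autoImplicit false
universe u v
open CategoryTheory CategoryTheory.Limits AlgebraicGeometry Opposite AlgSp

namespace K650.GenFlat

/-- base change of restrictions to opens -/
theorem isPullback_restrict {A T T' P : Scheme.{u}} {a : P ⟶ A} {w : P ⟶ T'} {f : A ⟶ T}
    {g : T' ⟶ T} (sq : IsPullback a w f g) (U : T.Opens) (V : T'.Opens)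
    (gVU : V.toScheme ⟶ U.toScheme) (h : gVU ≫ U.ι = V.ι ≫ g) :
    ∃ a' : (w ⁻¹ᵁ V).toScheme ⟶ (f ⁻¹ᵁ U).toScheme, IsPullback a' (w ∣_ V) (f ∣_ U) gVU := by
  have big : IsPullback ((w ⁻¹ᵁ V).ι ≫ a) (w ∣_ V) f (gVU ≫ U.ι) := by
    rw [h]
    exact (isPullback_morphismRestrict w V).flip.paste_horiz sq
  exact ⟨_, IsPullback.of_right' big (isPullback_morphismRestrict f U).flip⟩

variable {S : Scheme.{u}}

theorem exists_flat_open {X : Sp S} (hred : IsReducedSp X) {X' Q : Over S}
    {π : (yon S).obj X' ⟶ X} (hfin : RepWith @IsFinite π) {q1 q2 : Q ⟶ X'}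
    (sq : IsPullback ((yon S).map q1) ((yon S).map q2) π π) :
    ∃ (D : Set (Points X)) (DX : X'.left.Opens), IsOpen D ∧ Dense D ∧
      (∀ y, y ∈ DX ↔ Points.ofPt π y ∈ D) ∧ Flat (q1.left ∣_ DX) ∧
      LocallyOfFinitePresentation (q1.left ∣_ DX) := by
  obtain ⟨U, p, hp, hps, hU⟩ := hred
  obtain ⟨U', snd, fst, sqU⟩ := hfin.1 p
  have hsnd : IsFinite snd.left := hfin.2 p fst snd sqU
  obtain ⟨b, rfl⟩ := (yon S).map_surjective fst
  have hb : Etale b.left := (repWith_yon_map_iff _ b).1 (K606.RepWithBasic.of_isPullback sqU.flip hp)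
  have hbs : Surjective b.left :=
    (repWith_yon_map_iff _ b).1 (K606.RepWithBasic.of_isPullback sqU.flip hps)
  have : IsReduced U.left := hU
  obtain ⟨Y, hY, hfl, hfp⟩ := Groth.Agent.S0414.result snd.left
  have hcont := Points.continuous_ofPt p
  have hsurjp : Function.Surjective (Points.ofPt p) := K609.Points.surjective_ofPt_of_repWith_surjective hps
  let D : Set (Points X) := Points.ofPt p '' Y
  have hD : IsOpen D := K610.Base.isOpenMap_ofPt_etale hp _ Y.isOpen
  have hDd : Dense D := hsurjp.denseRange.dense_image hcont hY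
  let DX : X'.left.Opens := ⟨Points.ofPt π ⁻¹' D, hD.preimage (Points.continuous_ofPt π)⟩
  let Y' : U'.left.Opens := snd.left ⁻¹ᵁ Y
  -- compatibility of points
  have hpt : ∀ v : U'.left, Points.ofPt π (b.left v) = Points.ofPt p (snd.left v) := by
    intro v
    rw [← K610.Base.ofPt_map_comp, ← K610.Base.ofPt_map_comp, sqU.w]
  have hY'D : ∀ v ∈ Y', b.left v ∈ DX := by
    intro v hv
    change Points.ofPt π (b.left v) ∈ D
    rw [hpt]
    exact ⟨_, hv, rfl⟩
  -- the morphism `Y' ⟶ DX`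
  have hrange : Set.range (Y'.ι ≫ b.left) ⊆ Set.range DX.ι := by
    rintro _ ⟨v, rfl⟩
    rw [Scheme.Opens.range_ι]
    exact hY'D _ v.2
  let bY : Y'.toScheme ⟶ DX.toScheme := IsOpenImmersion.lift DX.ι (Y'.ι ≫ b.left) hrange
  have hbY : bY ≫ DX.ι = Y'.ι ≫ b.left := IsOpenImmersion.lift_fac _ _ _
  have hbYe : Etale bY := by
    have h1 : Etale (bY ≫ DX.ι) := by rw [hbY]; infer_instance
    exact MorphismProperty.of_postcomp (W := @Etale) (W' := @Etale) bY DX.ι inferInstance h1
  have hbYs : Surjective bY := by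
    refine ⟨fun y => ?_⟩
    have hy : Points.ofPt π y.1 ∈ D := y.2
    obtain ⟨u, hu, hu'⟩ := hy
    obtain ⟨v, hv1, hv2⟩ := K610.Base.exists_of_isPullback_charts sqU y.1 u hu'.symm
    have hvY : v ∈ Y' := by
      change snd.left v ∈ Y
      rw [hv2]; exact hu
    refine ⟨⟨v, hvY⟩, ?_⟩
    apply Subtype.ext
    have := congrArg (fun φ : Y'.toScheme ⟶ X'.left => φ (⟨v, hvY⟩ : Y'.toScheme)) hbY
    exact this.trans hv1
  -- the fibre products
  have sqP : IsPullback (pullback.fst q1 b) (pullback.snd q1 b) q1 b := IsPullback.of_hasPullback _ _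
  have big : IsPullback ((yon S).map (pullback.fst q1 b) ≫ (yon S).map q2)
      ((yon S).map (pullback.snd q1 b)) π ((yon S).map snd ≫ p) := by
    rw [← sqU.w]
    exact (sqP.map (yon S)).paste_horiz sq.flip
  obtain ⟨c, -, hc⟩ := K596.QC.isPullback_lift_right sqU big
  obtain ⟨c, rfl⟩ := (yon S).map_surjective c
  have hc' : IsPullback c.left (pullback.snd q1 b).left snd.left snd.left := by
    have h1 : IsPullback c (pullback.snd q1 b) snd snd := IsPullback.of_map_of_faithful (yon S) hc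
    exact h1.map (Over.forget S)
  have sqP' := sqP.map (Over.forget S)
  obtain ⟨a1, ha1⟩ := isPullback_restrict hc' Y Y' (snd.left ∣_ Y) (morphismRestrict_ι _ _)
  obtain ⟨a2, ha2⟩ := isPullback_restrict sqP' DX Y' bY hbY
  have hFppf : K595.RepDesc.Fppf bY :=
    ⟨⟨hbYs, (inferInstance : Flat bY)⟩, (inferInstance : LocallyOfFinitePresentation bY)⟩
  refine ⟨D, DX, hD, hDd, fun y => Iff.rfl, ?_, ?_⟩
  · have := K595.DescInst.flat.{u}
    have h1 : Flat ((pullback.snd q1 b).left ∣_ Y') :=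
      MorphismProperty.of_isPullback (P := @Flat) ha1 hfl
    exact MorphismProperty.of_isPullback_of_descendsAlong (P := @Flat) (Q := K595.RepDesc.Fppf)
      ha2.flip hFppf h1
  · have h1 : LocallyOfFinitePresentation ((pullback.snd q1 b).left ∣_ Y') :=
      MorphismProperty.of_isPullback (P := @LocallyOfFinitePresentation) ha1 hfp
    exact MorphismProperty.of_isPullback_of_descendsAlong (P := @LocallyOfFinitePresentation)
      (Q := K595.RepDesc.Fppf) ha2.flip hFppf h1

end K650.GenFlat
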