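import Mathlib
import Groth.Agent.AlgSp.K650.SatTop

set_option autoImplicit false
universe u v
open CategoryTheory CategoryTheory.Limits AlgebraicGeometry

namespace K650.GlueF

/-- points of an affine open outside the range of a closed immersion are not in the zero locus of the kernel -/
theorem exists_lift {X W : Scheme.{u}} (w : W ⟶ X) [IsClosedImmersion w] {V : X.Opens}
    (hV : IsAffineOpen V) (F : Set X) (hF : F.Finite) (g : Γ(W, w ⁻¹ᵁ V)) :
    ∃ f : Γ(X, V), w.app V f = g ∧ ∀ x ∈ F, x ∈ V → x ∉ Set.range w → x ∈ X.basicOpen f := by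
  have hWV : IsAffineOpen (w ⁻¹ᵁ V) := hV.preimage w
  have hsurj := w.app_surjective V hV
  have key : ∀ P : Spec Γ(W, w ⁻¹ᵁ V), w (hWV.fromSpec P) =
      hV.fromSpec (Spec.map (w.app V) P) := by
    intro P
    have := IsAffineOpen.SpecMap_appLE_fromSpec w hV hWV le_rfl
    have e0 : w.appLE V (w ⁻¹ᵁ V) le_rfl = w.app V := by simp [Scheme.Hom.appLE]
    rw [e0] at this
    rw [← Scheme.Hom.comp_apply, ← Scheme.Hom.comp_apply, this]
  obtain ⟨a, ha⟩ := hsurj g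
  let F' : Set (PrimeSpectrum Γ(X, V)) :=
    {P | hV.fromSpec P ∈ F ∧ hV.fromSpec P ∉ Set.range w}
  obtain ⟨f, hf, hf'⟩ := Avoid.exists_lift_nonvanishing (R := Γ(X, V))
    (RingHom.ker (w.app V).hom) a F'
    ((hF.preimage hV.fromSpec.isOpenEmbedding.injective.injOn).subset fun P hP => hP.1)
    (by
      intro P hP hcon
      have h1 : P ∈ Set.range (PrimeSpectrum.comap (w.app V).hom) := by
        rw [_root_.range_comap_of_surjective _ _ hsurj]
        exact hcon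
      obtain ⟨P', rfl⟩ := h1
      exact hP.2 ⟨_, key P'⟩)
  refine ⟨f, ?_, ?_⟩
  · have h1 : w.app V (f - a) = 0 := hf
    rw [map_sub, ha, sub_eq_zero] at h1
    exact h1
  · intro x hx hxV hxr
    obtain ⟨P, rfl⟩ : ∃ P : Spec Γ(X, V), hV.fromSpec P = x :=
      ⟨_, hV.fromSpec_primeIdealOf ⟨x, hxV⟩⟩
    rw [NormLoc.fromSpec_mem_basicOpen]
    exact hf' P ⟨hx, hxr⟩

theorem exists_glue {X W T' T : Scheme.{u}} (w : W ⟶ X) [IsClosedImmersion w] (o : T' ⟶ W)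
    [IsOpenImmersion o] (t : T' ⟶ T) (ht : IsClosedMap t) [IsAffine T] {V : X.Opens}
    (hV : IsAffineOpen V) (hVo : w ⁻¹ᵁ V ≤ o.opensRange) (C : Set T) (hC : C.Finite)
    (hCV : ∀ y, t y ∈ C → w (o y) ∈ V) (F : Set X) (hF : F.Finite) :
    ∃ (g : Γ(T, ⊤)) (f : Γ(X, V)), (∀ c ∈ C, c ∈ T.basicOpen g) ∧
      (∀ y, t y ∈ T.basicOpen g → w (o y) ∈ V) ∧
      (∀ y, w (o y) ∈ V → (w (o y) ∈ X.basicOpen f ↔ t y ∈ T.basicOpen g)) ∧
      (∀ x ∈ F, x ∈ V → x ∉ Set.range w → x ∈ X.basicOpen f) := by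
  have hcl : IsClosed {y : T' | w (o y) ∉ V} := by
    have : {y : T' | w (o y) ∉ V} = ((o ≫ w) ⁻¹ᵁ V : Set T')ᶜ := by
      ext y; simp
    rw [this]
    exact ((o ≫ w) ⁻¹ᵁ V).isOpen.isClosed_compl
  obtain ⟨g, hg1, -, hg3⟩ := SatTop.exists_section (isAffineOpen_top T)
    (t '' {y : T' | w (o y) ∉ V}) ∅ C (ht _ hcl) isClosed_empty hC
    (fun _ _ _ h => h) (by
      rintro x - ⟨y, hy, rfl⟩ hyC
      exact hy (hCV y hyC))
  let gT : Γ(T', ⊤) := t.appTop g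
  let gW0 : Γ(W, o ''ᵁ ⊤) := (o.appIso ⊤).inv gT
  have hle : w ⁻¹ᵁ V ≤ o ''ᵁ ⊤ := by
    rw [Scheme.Hom.image_top_eq_opensRange]; exact hVo
  let gW : Γ(W, w ⁻¹ᵁ V) := W.presheaf.map (homOfLE hle).op gW0
  obtain ⟨f, hf1, hf2⟩ := exists_lift w hV F hF gW
  refine ⟨g, f, fun c hc => hg3 c trivial hc, ?_, ?_, hf2⟩
  · intro y hy
    by_contra hcon
    exact hg1 (t y) trivial ⟨y, hcon, rfl⟩ hy
  · intro y hy
    have h1 : w (o y) ∈ X.basicOpen f ↔ o y ∈ W.basicOpen (w.app V f) := by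
      rw [← Scheme.preimage_basicOpen]
      rfl
    have h2 : o y ∈ W.basicOpen gW ↔ o y ∈ W.basicOpen gW0 := by
      rw [Scheme.basicOpen_res]
      exact ⟨fun h => h.2, fun h => ⟨hy, h⟩⟩
    have h3 : o y ∈ W.basicOpen gW0 ↔ y ∈ T'.basicOpen gT := by
      rw [← Scheme.image_basicOpen]
      constructor
      · rintro ⟨y', hy', hy''⟩
        rwa [o.isOpenEmbedding.injective hy''] at hy'
      · intro h
        exact ⟨y, h, rfl⟩
    have h4 : y ∈ T'.basicOpen gT ↔ t y ∈ T.basicOpen g := by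
      have : t ⁻¹ᵁ T.basicOpen g = T'.basicOpen gT := Scheme.preimage_basicOpen_top t g
      rw [← this]
      rfl
    rw [h1, hf1, h2, h3, h4]

end K650.GlueF
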