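import Mathlib
import Groth.Prelude
import Groth.Agent.AlgSp.K610.RedInd

set_option autoImplicit false
universe u
open CategoryTheory CategoryTheory.Limits AlgebraicGeometry Opposite AlgSp

namespace K650.RedSub

variable {S : Scheme.{u}}

/-- reduced closed subspaces (S10192). -/
theorem exists_red {X : Sp S} (hX : IsAlgSpace X) (T : Set (Points X)) (hT : IsClosed T) :
    ∃ (Z : Sp S) (i : Z ⟶ X), IsAlgSpace Z ∧ RepWith @IsClosedImmersion i ∧
      Set.range (Points.map i) = T ∧ IsReducedSp Z := by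
  obtain ⟨Z, i, h⟩ := K610.RedInd.exists_redInduced ⟨X, hX⟩ T hT
  exact ⟨Z.obj, i.hom, Z.property, h.1, h.2.1, h.2.2⟩

end K650.RedSub
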