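import Mathlib
import Groth.Prelude
import Groth.Agent.AlgSp.K650.Sat
import Groth.Agent.AlgSp.K650.GenFlat
import Groth.Agent.AlgSp.K650.GlueF
import Groth.Agent.AlgSp.K650.RedSub
import Groth.Agent.AlgSp.K609.Sep

set_option autoImplicit false
universe u v
open CategoryTheory CategoryTheory.Limits AlgebraicGeometry Opposite AlgSp
open K650.Sat

namespace K650.ThmK

variable {S : Scheme.{u}}

/-- The conclusion of theorem K for `X`: finite sets of points whose preimage under a finite surjective
morphism from a scheme lies in an affine open, lie in an affine open subspace. -/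
def Good (X : Sp S) : Prop :=
  ∀ (X' : Over S) (π : (yon S).obj X' ⟶ X), RepWith @IsFinite π → RepWith @Surjective π →
    ∀ (E : Set (Points X)), E.Finite → ∀ (V : X'.left.Opens), IsAffineOpen V →
      (∀ y, Points.ofPt π y ∈ E → y ∈ V) → InAffine X E

theorem repWith_finite_of_closed {Z X : Sp S} {i : Z ⟶ X} (hi : RepWith @IsClosedImmersion i) :
    RepWith @IsFinite i :=
  K596.Univ.repWith_mono (Q := @IsClosedImmersion) (Q' := @IsFinite) (fun _ _ f hf => by
    have : IsClosedImmersion f := hf
    exact (inferInstance : IsFinite f)) hi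

theorem isClosedMap_of_closed {Z X : Sp S} {i : Z ⟶ X} (hi : RepWith @IsClosedImmersion i) :
    IsClosedMap (Points.map i) :=
  K596.Univ.isClosedMap_of_repWith
    (K596.Univ.repWith_mono (Q := @IsClosedImmersion) (Q' := @UniversallyClosed)
      (fun _ _ f hf => by
        have : IsClosedImmersion f := hf
        exact (inferInstance : UniversallyClosed f)) hi)

theorem injective_of_closed {Z X : Sp S} (hX : IsAlgSpace X) {i : Z ⟶ X}
    (hi : RepWith @IsClosedImmersion i) : Function.Injective (Points.map i) :=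
  (K610.OpenImm.isEmbedding_points hX (K610.OpenImm.repWith_isImmersion_of_closed hi)).1.injective

theorem locNoeth_of_closed {Z X : Sp S} (hN : IsLocNoethSp X) {i : Z ⟶ X}
    (hi : RepWith @IsClosedImmersion i) : IsLocNoethSp Z :=
  isLocNoethSp_of_repWith hN
    (K596.Univ.repWith_mono (Q := @IsClosedImmersion) (Q' := @LocallyOfFiniteType)
      (fun _ _ f hf => by
        have : IsClosedImmersion f := hf
        exact (inferInstance : LocallyOfFiniteType f)) hi)

theorem isAlgSpace_of_closed {Z X : Sp S} (hX : IsAlgSpace X) {i : Z ⟶ X}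
    (hi : RepWith @IsClosedImmersion i) : IsAlgSpace Z := by
  have := K610.Factor.mono_of_isClosedImmersion hi
  exact K610.Sub.isAlgSpace_of_mono hi.1 hX

/-- fibres of a finite morphism over finite sets of points are finite. -/
theorem finite_preimage {X : Sp S} (hX : IsAlgSpace X) {X' : Over S} {π : (yon S).obj X' ⟶ X}
    (hfin : RepWith @IsFinite π) {E : Set (Points X)} (hE : E.Finite) :
    (Points.ofPt π ⁻¹' E).Finite := by
  obtain ⟨Q, q1, q2, sq⟩ := K609.Sep.exists_isPullback_yon hX.diag π π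
  have hq1 : IsFinite q1.left := hfin.2 π ((yon S).map q2) q1 sq.flip
  have hpt : ∀ x : Points X, (Points.ofPt π ⁻¹' {x}).Finite := by
    intro x
    by_cases hx : ∃ y, Points.ofPt π y = x
    · obtain ⟨y0, rfl⟩ := hx
      have h1 : (Points.ofPt π ⁻¹' {Points.ofPt π y0}) ⊆ q2.left '' (q1.left ⁻¹' {y0}) := by
        intro y hy
        obtain ⟨w, hw1, hw2⟩ := (ofPt_eq_iff sq y0 y).1 (by simpa using hy.symm)
        exact ⟨w, hw1, hw2⟩
      exact ((q1.left.finite_preimage_singleton y0).image _).subset h1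
    · have : Points.ofPt π ⁻¹' {x} = ∅ := by
        ext y
        simp only [Set.mem_preimage, Set.mem_singleton_iff, Set.mem_empty_iff_false, iff_false]
        exact fun h => hx ⟨y, h⟩
      rw [this]
      exact Set.finite_empty
  have : Points.ofPt π ⁻¹' E = ⋃ x ∈ E, Points.ofPt π ⁻¹' {x} := by
    ext y
    simp
  rw [this]
  exact hE.biUnion fun x _ => hpt x

/-- the pullback of `π : X' ⟶ X` along a closed immersion `i : Z ⟶ X` -/
theorem exists_restrict {X Z : Sp S} {X' : Over S} {π : (yon S).obj X' ⟶ X}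
    (hfin : RepWith @IsFinite π) (hsurj : RepWith @Surjective π) {i : Z ⟶ X}
    (hi : RepWith @IsClosedImmersion i) :
    ∃ (W : Over S) (w : W ⟶ X') (πZ : (yon S).obj W ⟶ Z), IsPullback πZ ((yon S).map w) i π ∧
      IsClosedImmersion w.left ∧ RepWith @IsFinite πZ ∧ RepWith @Surjective πZ ∧
      (∀ y, Points.ofPt π (w.left y) = Points.map i (Points.ofPt πZ y)) ∧
      (∀ (x : X'.left) (z : Points Z), Points.ofPt π x = Points.map i z →
        ∃ y, Points.ofPt πZ y = z ∧ w.left y = x) := by
  obtain ⟨W, w, πZ, sq⟩ := hi.1 π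
  refine ⟨W, w, πZ, sq, hi.2 π πZ w sq, K606.RepWithBasic.of_isPullback sq.flip hfin,
    K606.RepWithBasic.of_isPullback sq.flip hsurj, fun y => ?_, fun x z h => ?_⟩
  · rw [← K610.Base.ofPt_map_comp, ← K610.Base.ofPt_comp, sq.w]
  · exact K610.Base.exists_of_isPullback_yon sq z x h.symm

/-- A finite set of points of an affine open `V`, contained in an open set `O`, is in an affine open
`V' ≤ V` contained in `O`. -/
theorem exists_affine_sub {X : Scheme.{u}} {V : X.Opens} (hV : IsAffineOpen V) (O : Set X)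
    (hO : IsOpen O) (F : Set X) (hF : F.Finite) (hFV : ∀ x ∈ F, x ∈ V) (hFO : ∀ x ∈ F, x ∈ O) :
    ∃ V' : X.Opens, IsAffineOpen V' ∧ V' ≤ V ∧ (V' : Set X) ⊆ O ∧ ∀ x ∈ F, x ∈ V' := by
  obtain ⟨f, hf1, -, hf3⟩ := SatTop.exists_section hV Oᶜ ∅ F hO.isClosed_compl isClosed_empty hF
    (fun _ _ _ h => h) (fun x _ hx hxF => hx (hFO x hxF))
  refine ⟨X.basicOpen f, hV.basicOpen f, X.basicOpen_le f, ?_, fun x hx => hf3 x (hFV x hx) hx⟩
  intro x hx
  by_contra hcon
  exact hf1 x (X.basicOpen_le f hx) hcon hx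

/-- **Reduced case.** -/
theorem good_of_reduced {X : Sp S} (hX : IsAlgSpace X) (hN : IsLocNoethSp X)
    (hred : IsReducedSp X) (hne : Nonempty (Points X))
    (IH : ∀ (Z : Sp S) (i : Z ⟶ X), RepWith @IsClosedImmersion i →
      Set.range (Points.map i) ≠ Set.univ → Good Z) : Good X := by
  intro X' π hfin hsurj E hE V0 hV0 hEV0
  obtain ⟨Q, q1, q2, sq⟩ := K609.Sep.exists_isPullback_yon hX.diag π π
  obtain ⟨D, DX, hD, hDd, hDX, hflat, hlfp⟩ := GenFlat.exists_flat_open hred hfin sq
  obtain ⟨Z, i, hZ, hi, hiD, -⟩ := RedSub.exists_red hX Dᶜ hD.isClosed_compl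
  have hgood : Good Z := IH Z i hi (by
    rw [hiD]
    intro h
    have : D = ∅ := by rwa [Set.compl_univ_iff] at h
    rw [this] at hDd
    obtain ⟨x, hx⟩ := hDd.nonempty
    exact hx)
  have hinj := injective_of_closed hX hi
  obtain ⟨W, w, πZ, sqW, hw, hfinZ, hsurjZ, hcomp, hlift⟩ := exists_restrict hfin hsurj hi
  have hEZ : (Points.map i ⁻¹' E).Finite := hE.preimage hinj.injOn
  obtain ⟨T0, j0, hT0, hj0, hEj0⟩ := hgood W πZ hfinZ hsurjZ (Points.map i ⁻¹' E) hEZ
    (w.left ⁻¹ᵁ V0) (hV0.preimage w.left) (by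
      intro y hy
      exact hEV0 _ (by rw [hcomp]; exact hy))
  -- the part of `T0` in `W`
  obtain ⟨T', o, t, sqT⟩ := hj0.1 πZ
  have ho : IsOpenImmersion o.left := hj0.2 πZ t o sqT
  have htf : RepWith @IsFinite t := K606.RepWithBasic.of_isPullback sqT.flip hfinZ
  obtain ⟨t, rfl⟩ := (yon S).map_surjective t
  have htf' : IsFinite t.left := (repWith_yon_map_iff _ t).1 htf
  have htcl : IsClosedMap t.left := t.left.isClosedMap
  have hTpt : ∀ y, Points.ofPt πZ (o.left y) = Points.ofPt j0 (t.left y) := by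
    intro y
    rw [← K610.Base.ofPt_map_comp, ← K610.Base.ofPt_map_comp, sqT.w]
  have hj0inj : Function.Injective (Points.ofPt j0) := by
    have h1 := (K610.OpenImm.isOpenEmbedding_points hZ hj0).injective
    intro a b hab
    rw [Points.ofPt_eq_map_ofScheme, Points.ofPt_eq_map_ofScheme] at hab
    exact (Points.schemeEquiv T0).injective (h1 hab)
  have hj0open : IsOpen (Set.range (Points.ofPt j0)) :=
    (K610.Base.isOpenMap_ofPt_etale (K610.OpenImm.repWith_etale_of_open hj0)).isOpen_range
  -- the closed set to be avoided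
  let C1 : Set (Points X) := Points.map i '' (Set.range (Points.ofPt j0))ᶜ
  have hC1 : IsClosed C1 := isClosedMap_of_closed hi _ hj0open.isClosed_compl
  have hFfin := finite_preimage hX hfin hE
  obtain ⟨V1, hV1, hV10, hV1C, hFV1⟩ := exists_affine_sub hV0 (Points.ofPt π ⁻¹' C1ᶜ)
    (hC1.isOpen_compl.preimage (Points.continuous_ofPt π)) (Points.ofPt π ⁻¹' E) hFfin
    (fun x hx => hEV0 x hx) (by
      rintro x hx ⟨z, hz, hzx⟩
      apply hz
      apply hEj0
      change Points.map i z ∈ E
      rw [hzx]; exact hx)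
  have hVo : w.left ⁻¹ᵁ V1 ≤ o.left.opensRange := by
    intro y hy
    have h1 : Points.ofPt π (w.left y) ∉ C1 := hV1C hy
    have h2 : Points.ofPt πZ y ∈ Set.range (Points.ofPt j0) := by
      by_contra hcon
      exact h1 ⟨_, hcon, (hcomp y).symm⟩
    obtain ⟨x, hx⟩ := h2
    obtain ⟨v, -, hv⟩ := K610.Base.exists_of_isPullback_charts sqT x y hx
    exact ⟨v, hv⟩
  let C : Set T0.left := (fun x => Points.map i (Points.ofPt j0 x)) ⁻¹' E
  have hC : C.Finite := hE.preimage (Function.Injective.injOn (hinj.comp hj0inj))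
  have hpt2 : ∀ y, Points.ofPt π (w.left (o.left y)) = Points.map i (Points.ofPt j0 (t.left y)) := by
    intro y
    rw [hcomp, hTpt]
  obtain ⟨g, f, hg1, hg2, hg3, hf⟩ := GlueF.exists_glue w.left o.left t.left htcl hV1 hVo C hC
    (by
      intro y hy
      apply hFV1
      change Points.ofPt π _ ∈ E
      rw [hpt2]
      exact hy) (Points.ofPt π ⁻¹' E) hFfin
  refine inAffine_of_sat hX hN hfin hsurj sq D hD DX hDX hflat hlfp (hV1.basicOpen f) ?_ E hE ?_
  · intro y hy hyD y' hyy'
    have hyV1 : y ∈ V1 := X'.left.basicOpen_le f hy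
    have hyi : Points.ofPt π y ∈ Set.range (Points.map i) := by rw [hiD]; exact hyD
    obtain ⟨z, hz⟩ := hyi
    obtain ⟨y1, hy1, rfl⟩ := hlift y z hz.symm
    obtain ⟨y2, rfl⟩ := hVo hyV1
    have hgy : t.left y2 ∈ T0.left.basicOpen g := (hg3 y2 hyV1).1 hy
    have h1 : Points.ofPt π y' = Points.map i (Points.ofPt j0 (t.left y2)) := by
      rw [hyy', hpt2]
    obtain ⟨y1', hy1', rfl⟩ := hlift y' _ h1
    obtain ⟨y2', hy2', rfl⟩ := K610.Base.exists_of_isPullback_charts sqT (t.left y2) y1' hy1'.symm
    have hgy' : t.left y2' ∈ T0.left.basicOpen g := by rw [hy2']; exact hgy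
    exact (hg3 y2' (hg2 y2' hgy')).2 hgy'
  · intro y hy
    have hyV1 := hFV1 y hy
    by_cases hyw : y ∈ Set.range w.left
    · obtain ⟨y1, rfl⟩ := hyw
      obtain ⟨y2, rfl⟩ := hVo hyV1
      refine (hg3 y2 hyV1).2 (hg1 _ ?_)
      change Points.map i _ ∈ E
      rw [← hpt2]
      exact hy
    · exact hf y hy hyV1 hyw

/-- **Reduction to the reduced case.** -/
theorem good_of_red {X Z : Sp S} (hX : IsAlgSpace X) (hN : IsLocNoethSp X) {i : Z ⟶ X}
    (hi : RepWith @IsClosedImmersion i) (hs : Set.range (Points.map i) = Set.univ)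
    (hZ : Good Z) : Good X := by
  intro X' π hfin hsurj E hE V0 hV0 hEV0
  have hinj := injective_of_closed hX hi
  have hZa := isAlgSpace_of_closed hX hi
  obtain ⟨W, w, πZ, sqW, hw, hfinZ, hsurjZ, hcomp, hlift⟩ := exists_restrict hfin hsurj hi
  obtain ⟨T, j, hT, hj, hEj⟩ := hZ W πZ hfinZ hsurjZ (Points.map i ⁻¹' E) (hE.preimage hinj.injOn)
    (w.left ⁻¹ᵁ V0) (hV0.preimage w.left) (by
      intro y hy
      exact hEV0 _ (by rw [hcomp]; exact hy))
  have hjo : IsOpen (Set.range (Points.ofPt j)) :=
    (K610.Base.isOpenMap_ofPt_etale (K610.OpenImm.repWith_etale_of_open hj)).isOpen_range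
  let A : Set (Points X) := (Points.map i '' (Set.range (Points.ofPt j))ᶜ)ᶜ
  have hA : IsOpen A := (isClosedMap_of_closed hi _ hjo.isClosed_compl).isOpen_compl
  have hAr : Set.range (Points.ofPt j) = Points.map i ⁻¹' A := by
    ext z
    constructor
    · rintro hz ⟨z', hz', hzz'⟩
      rw [hinj hzz'] at hz'
      exact hz' hz
    · intro hz
      by_contra hcon
      exact hz ⟨z, hcon, rfl⟩
  have hsi : RepWith @Surjective i := (K609.Points.repWith_surjective_iff hi.1).2
    (Set.range_eq_univ.1 hs)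
  refine (inAffine_of_cover hX hN (repWith_finite_of_closed hi) hsi hA hT hj hAr).mono ?_
  rintro e he ⟨z, hz, rfl⟩
  exact hz (hEj he)

theorem good_of_isEmpty {X : Sp S} (hX : IsAlgSpace X) (hN : IsLocNoethSp X)
    (hne : IsEmpty (Points X)) : Good X := by
  intro X' π hfin hsurj E hE V0 hV0 hEV0
  refine (inAffine_of_preimage hX hN hfin hsurj (A := ∅) isOpen_empty (O := ⊥) ?_
    (isAffineOpen_bot _)).mono ?_
  · intro y
    exact (hne.false (Points.ofPt π y)).elim
  · intro e
    exact (hne.false e).elim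

/-- **Noetherian induction.** -/
theorem good_closed {X0 : Sp S} (hX0 : IsAlgSpace X0) (hN0 : IsLocNoethSp X0)
    [TopologicalSpace.NoetherianSpace (Points X0)] (C : TopologicalSpace.Closeds (Points X0)) :
    ∀ (Z : Sp S) (i : Z ⟶ X0), RepWith @IsClosedImmersion i →
      Set.range (Points.map i) ⊆ (C : Set (Points X0)) → Good Z := by
  have hwf : WellFoundedLT (TopologicalSpace.Closeds (Points X0)) := inferInstance
  induction C using hwf.induction with
  | ind C IH =>
    intro Z i hi hC
    have hZ := isAlgSpace_of_closed hX0 hi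
    have hNZ := locNoeth_of_closed hN0 hi
    obtain ⟨R, r, hR, hr, hrr, hRred⟩ := RedSub.exists_red hZ Set.univ isClosed_univ
    refine good_of_red hZ hNZ hr hrr ?_
    have hri : RepWith @IsClosedImmersion (r ≫ i) :=
      K606.RepWithBasic.comp hr hi
    have hNR := locNoeth_of_closed hNZ hr
    rcases isEmpty_or_nonempty (Points R) with hem | hne
    · exact good_of_isEmpty hR hNR hem
    refine good_of_reduced hR hNR hRred hne fun Y k hk hrk => ?_
    have hki : RepWith @IsClosedImmersion (k ≫ r ≫ i) :=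
      K606.RepWithBasic.comp hk hri
    let C' : TopologicalSpace.Closeds (Points X0) :=
      ⟨Set.range (Points.map (k ≫ r ≫ i)), (isClosedMap_of_closed hki).isClosed_range⟩
    have hlt : C' < C := by
      rw [lt_iff_le_and_ne]
      constructor
      · rintro _ ⟨y, rfl⟩
        apply hC
        rw [Points.map_comp, Points.map_comp]
        exact ⟨_, rfl⟩
      · intro heq
        apply hrk
        rw [Set.eq_univ_iff_forall]
        intro z
        have hz : Points.map (r ≫ i) z ∈ (C : Set (Points X0)) := by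
          apply hC
          rw [Points.map_comp]
          exact ⟨_, rfl⟩
        rw [← heq] at hz
        obtain ⟨y, hy⟩ := hz
        rw [Points.map_comp] at hy
        exact ⟨y, injective_of_closed hX0 hri hy⟩
    exact IH C' hlt Y (k ≫ r ≫ i) hki le_rfl

theorem good_of_noetherian {X0 : Sp S} (hX0 : IsAlgSpace X0) (hN0 : IsLocNoethSp X0)
    (h : TopologicalSpace.NoetherianSpace (Points X0)) : Good X0 :=
  good_closed hX0 hN0 ⊤ X0 (𝟙 X0)
    ((repWith_isMultiplicative (S := S) @IsClosedImmersion).toContainsIdentities.id_mem X0)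
    (fun _ _ => trivial)

/-- A finite set of points of an algebraic space lies in a quasi-compact open. -/
theorem exists_compact_open {X : Sp S} (hX : IsAlgSpace X) {E : Set (Points X)} (hE : E.Finite) :
    ∃ U : Set (Points X), IsOpen U ∧ IsCompact U ∧ E ⊆ U := by
  classical
  choose V hV hVc hxV _ using fun x : Points X =>
    K609.QC.exists_isOpen_isCompact_nhd hX x Set.univ isOpen_univ trivial
  refine ⟨⋃ x ∈ E, V x, isOpen_biUnion fun x _ => hV x, hE.isCompact_biUnion fun x _ => hVc x, ?_⟩
  intro x hx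
  exact Set.mem_biUnion hx (hxV x)

/-- **Theorem K.** Let `X` be a locally Noetherian algebraic space, `π : X' ⟶ X` a finite surjective morphism
from a scheme and `E` a finite set of points of `X` whose preimage in `X'` is contained in an affine
open. Then `E` is contained in an affine open subspace of `X`. -/
theorem good {X : Sp S} (hX : IsAlgSpace X) (hN : IsLocNoethSp X) : Good X := by
  intro X' π hfin hsurj E hE V0 hV0 hEV0
  obtain ⟨U, hU, hUc, hEU⟩ := exists_compact_open hX hE
  have hι := K610.Sub.repWith_openPred hU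
  have hX1 : IsAlgSpace (K610.Sub.openPred U).sub := K610.Sub.isAlgSpace_of_mono hι.1 hX
  have hN1 : IsLocNoethSp (K610.Sub.openPred U).sub :=
    isLocNoethSp_of_repWith hN (K596.Univ.repWith_mono (Q := @IsOpenImmersion) (fun _ _ f hf => by
      have : IsOpenImmersion f := hf
      infer_instance) hι)
  have hemb := K610.OpenImm.isOpenEmbedding_points hX hι
  have hr := K610.Sub.range_openPred U
  have hcomp : CompactSpace (Points (K610.Sub.openPred U).sub) := by
    rw [← isCompact_univ_iff, hemb.isInducing.isCompact_iff, Set.image_univ, hr]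
    exact hUc
  have hnoeth : TopologicalSpace.NoetherianSpace (Points (K610.Sub.openPred U).sub) :=
    K610.Noeth.noetherianSpace_of_local fun x => K610.Noeth.exists_nhd hN1 x
  obtain ⟨W, w, π1, sq⟩ := hι.1 π
  have hw : IsOpenImmersion w.left := hι.2 π π1 w sq
  have hfin1 : RepWith @IsFinite π1 := K606.RepWithBasic.of_isPullback sq.flip hfin
  have hsurj1 : RepWith @Surjective π1 := K606.RepWithBasic.of_isPullback sq.flip hsurj
  have hpt : ∀ y, Points.ofPt π (w.left y) =
      Points.map (K610.Sub.openPred U).ι (Points.ofPt π1 y) := by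
    intro y
    rw [← K610.Base.ofPt_map_comp, ← K610.Base.ofPt_comp, sq.w]
  have hFfin := finite_preimage hX hfin hE
  obtain ⟨V1, hV1, hV10, hV1U, hFV1⟩ := exists_affine_sub hV0 (Points.ofPt π ⁻¹' U)
    (hU.preimage (Points.continuous_ofPt π)) (Points.ofPt π ⁻¹' E) hFfin
    (fun x hx => hEV0 x hx) (fun x hx => hEU hx)
  have hV1w : V1 ≤ w.left.opensRange := by
    intro y hy
    have h1 : Points.ofPt π y ∈ Set.range (Points.map (K610.Sub.openPred U).ι) := by
      rw [hr]; exact hV1U hy
    obtain ⟨z, hz⟩ := h1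
    obtain ⟨v, -, hv⟩ := K610.Base.exists_of_isPullback_yon sq z y hz
    exact ⟨v, hv⟩
  have h2 := good_of_noetherian hX1 hN1 hnoeth W π1 hfin1 hsurj1
    (Points.map (K610.Sub.openPred U).ι ⁻¹' E) (hE.preimage hemb.injective.injOn)
    (w.left ⁻¹ᵁ V1) (hV1.preimage_of_isOpenImmersion w.left hV1w) (by
      intro y hy
      apply hFV1
      change Points.ofPt π (w.left y) ∈ E
      rw [hpt]
      exact hy)
  refine (InAffine.of_open hι h2).mono ?_
  intro e he
  have h3 : e ∈ Set.range (Points.map (K610.Sub.openPred U).ι) := by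
    rw [hr]; exact hEU he
  obtain ⟨z, rfl⟩ := h3
  exact ⟨z, he, rfl⟩

end K650.ThmK
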