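import Mathlib

/-!
# Torsion over a Dedekind domain
-/

set_option autoImplicit false
universe u v

namespace K650.DedAlg

variable {R B : Type*} [CommRing R] [CommRing B]

/-- The torsion ideal. -/
def tors [IsDomain R] (φ : R →+* B) : Ideal B where
  carrier := {b | ∃ r, r ≠ 0 ∧ φ r * b = 0}
  zero_mem' := ⟨1, one_ne_zero, by simp⟩
  add_mem' := by
    rintro a b ⟨r, hr, h1⟩ ⟨s, hs, h2⟩
    refine ⟨r * s, mul_ne_zero hr hs, ?_⟩
    rw [map_mul]
    linear_combination φ s * h1 + φ r * h2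
  smul_mem' := by
    rintro c b ⟨r, hr, h1⟩
    refine ⟨r, hr, ?_⟩
    rw [smul_eq_mul]
    linear_combination c * h1

theorem mem_tors [IsDomain R] {φ : R →+* B} {b : B} : b ∈ tors φ ↔ ∃ r, r ≠ 0 ∧ φ r * b = 0 := Iff.rfl

theorem exists_kill [IsDomain R] [IsNoetherianRing B] (φ : R →+* B) :
    ∃ r, r ≠ 0 ∧ ∀ b ∈ tors φ, φ r * b = 0 := by
  obtain ⟨s, hs⟩ := (isNoetherianRing_iff_ideal_fg B).1 inferInstance (tors φ)
  have key : ∀ s : Finset B, (∀ b ∈ s, b ∈ tors φ) → ∃ r, r ≠ 0 ∧ ∀ b ∈ s, φ r * b = 0 := by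
    classical
    intro s
    induction s using Finset.induction_on with
    | empty => exact fun _ => ⟨1, one_ne_zero, fun b hb => by simp at hb⟩
    | insert a s ha ih =>
      intro h
      obtain ⟨r, hr, h1⟩ := ih fun b hb => h b (Finset.mem_insert_of_mem hb)
      obtain ⟨r', hr', h2⟩ := h a (Finset.mem_insert_self _ _)
      refine ⟨r * r', mul_ne_zero hr hr', fun b hb => ?_⟩
      rcases Finset.mem_insert.1 hb with rfl | hb
      · rw [map_mul, mul_assoc, h2, mul_zero]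
      · rw [map_mul, mul_comm (φ r), mul_assoc, h1 b hb, mul_zero]
  obtain ⟨r, hr, h⟩ := key s fun b hb => by rw [← hs]; exact Ideal.subset_span hb
  refine ⟨r, hr, fun b hb => ?_⟩
  rw [← hs] at hb
  induction hb using Submodule.span_induction with
  | mem x hx => exact h x hx
  | zero => simp
  | add x y _ _ hx hy => rw [mul_add, hx, hy, add_zero]
  | smul a x _ hx => rw [smul_eq_mul, mul_left_comm, hx, mul_zero]

theorem flat_of_torsionFree [IsDedekindDomain R] (φ : R →+* B)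
    (h : ∀ (r : R) (b : B), r ≠ 0 → φ r * b = 0 → b = 0) : φ.Flat := by
  let _ := φ.toAlgebra
  change Module.Flat R B
  rw [IsDedekindDomain.flat_iff_torsion_eq_bot, eq_bot_iff]
  rintro b ⟨⟨r, hr⟩, hb⟩
  exact h r b (nonZeroDivisors.ne_zero hr) hb

theorem flat_quot [IsDedekindDomain R] (φ : R →+* B) :
    ((Ideal.Quotient.mk (tors φ)).comp φ).Flat := by
  refine flat_of_torsionFree _ fun r b hr hb => ?_
  obtain ⟨b, rfl⟩ := Ideal.Quotient.mk_surjective b
  rw [RingHom.comp_apply, ← map_mul, Ideal.Quotient.eq_zero_iff_mem] at hb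
  obtain ⟨r', hr', h⟩ := hb
  rw [Ideal.Quotient.eq_zero_iff_mem]
  refine ⟨r' * r, mul_ne_zero hr' hr, ?_⟩
  rw [map_mul, mul_assoc, h]

theorem flat_away [IsDedekindDomain R] (φ : R →+* B) {r : R} (hr : r ≠ 0)
    (h : ∀ b ∈ tors φ, φ r * b = 0) (C : Type*) [CommRing C] [Algebra B C]
    [IsLocalization.Away (φ r) C] : ((algebraMap B C).comp φ).Flat := by
  refine flat_of_torsionFree _ fun r' c hr' hc => ?_
  obtain ⟨b, ⟨_, n, rfl⟩, rfl⟩ := IsLocalization.exists_mk'_eq (Submonoid.powers (φ r)) c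
  rw [RingHom.comp_apply, IsLocalization.mul_mk'_eq_mk'_of_mul, IsLocalization.mk'_eq_zero_iff] at hc
  obtain ⟨⟨_, m, rfl⟩, hm⟩ := hc
  rw [IsLocalization.mk'_eq_zero_iff]
  have h1 : b ∈ tors φ := ⟨r ^ m * r', mul_ne_zero (pow_ne_zero _ hr) hr', by
    rw [map_mul, map_pow, mul_assoc]; exact hm⟩
  exact ⟨⟨φ r, 1, pow_one _⟩, h b h1⟩

theorem flat_away' [IsDedekindDomain R] (φ : R →+* B) {r : R} (hr : r ≠ 0)
    (h : ∀ b ∈ tors φ, φ r * b = 0) : ((algebraMap B (Localization.Away (φ r))).comp φ).Flat :=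
  flat_away φ hr h _

theorem exists_sep [IsDedekindDomain R] {r : R} (hr : r ≠ 0) {p : Ideal R} [hp : p.IsPrime]
    (hrp : r ∈ p) : ∃ f ∉ p, ∀ q : Ideal R, q.IsPrime → r ∈ q → f ∉ q → q = p := by
  have hp0 : p ≠ ⊥ := by
    rintro rfl
    exact hr hrp
  have hr0 : Ideal.span {r} ≠ (0 : Ideal R) := by
    rw [Ideal.zero_eq_bot, Ne, Ideal.span_singleton_eq_bot]
    exact hr
  have hfin : FiniteMultiplicity p (Ideal.span {r}) := by
    refine FiniteMultiplicity.of_not_isUnit ?_ hr0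
    rw [Ideal.isUnit_iff]
    exact hp.ne_top
  obtain ⟨J, hJ, hJp⟩ := hfin.exists_eq_pow_mul_and_not_dvd
  rw [Ideal.dvd_iff_le] at hJp
  obtain ⟨f, hf, hfp⟩ := SetLike.not_le_iff_exists.1 hJp
  refine ⟨f, hfp, fun q hq hrq hfq => ?_⟩
  have h1 : p ^ multiplicity p (Ideal.span {r}) * J ≤ q := by
    rw [← hJ, Ideal.span_singleton_le_iff_mem]
    exact hrq
  rcases (hq.mul_le).1 h1 with h2 | h2
  · have h3 : p ≤ q := hq.le_of_pow_le h2
    have hpm : p.IsMaximal := hp.isMaximal hp0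
    exact (hpm.eq_of_le hq.ne_top h3).symm
  · exact (hfq (h2 hf)).elim

end K650.DedAlg
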