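import Mathlib
import Groth.Prelude
import Groth.Agent.AlgSp.K600.LimRep
import Groth.Agent.AlgSp.K604.FinCover
import Groth.Agent.AlgSp.K650.ThmK

/-!
# Quasi-affine limits
-/

set_option autoImplicit false
set_option backward.isDefEq.respectTransparency false
universe u
open CategoryTheory CategoryTheory.Limits AlgebraicGeometry Opposite AlgSp

namespace K650.QAff

open K600.LimSys K600.LimAff K613.Cover K600.LimRep

variable {S : Scheme.{u}} {I : Type u} [SmallCategory I] [IsCofiltered I] {D : I ⥤ Sp S}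

theorem exists_quasiAffine_of_rep [QuasiSeparatedSpace ↥S]
    (hDa : ∀ (i j : I) (φ : i ⟶ j), IsAffineMor (D.map φ)) {c : Cone D} (hc : IsLimit c)
    {T : Over S} (hT : T.left.IsQuasiAffine) (e : (yon S).obj T ≅ c.pt) {i : I} (hqc : IsQuasiCompactSp (D.obj i))
    (hqs : IsQuasiSeparatedSp (D.obj i)) {X : Over S} (eX : (yon S).obj X ≅ D.obj i) :
    ∃ (j : Over i) (T' : Over S), T'.left.IsQuasiAffine ∧ Nonempty ((yon S).obj T' ≅ D.obj j.left) := by
  have hDr : ∀ (i j : I) (φ : i ⟶ j), RepWith @IsAffineHom (D.map φ) := fun i j φ =>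
    K597.Affine.isAffineMor_iff.1 (hDa i j φ)
  let s : Sys D i eX.hom := Sys.ofRep (fun i j φ => (hDr i j φ).1) eX.hom
  obtain ⟨b, hb⟩ := (yon S).map_surjective (e.hom ≫ c.π.app i ≫ eX.inv)
  have sq : IsPullback e.hom ((yon S).map b) (c.π.app i) eX.hom :=
    IsPullback.of_horiz_isIso ⟨by rw [hb]; simp⟩
  have hlim := s.isLimitConeLeft sq hc
  have hXc : CompactSpace X.left := compactSpace_of_chart eX hqc
  have hXq : QuasiSeparatedSpace X.left := by
    have h12 : QuasiCompact (pullback.diagonal X.hom) :=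
      (repWith_diag_yon_iff @QuasiCompact X).1 (isQuasiSeparatedSp_of_iso eX.symm hqs)
    have h13 : QuasiSeparated X.hom := ⟨h12⟩
    exact quasiSeparatedSpace_of_quasiSeparated X.hom
  have hs0 : ∀ j, IsAffineHom (s.snd j).left := fun j => (hDr _ _ j.hom).2 _ _ _ (s.sq j)
  have hAff : ∀ {j k : Over i} (f : j ⟶ k), IsAffineHom ((s.W ⋙ Over.forget S).map f) :=
    fun f => s.isAffineHom_map hDr f
  have i1 : ∀ j, CompactSpace ((s.W ⋙ Over.forget S).obj j) := fun j =>
    QuasiCompact.compactSpace_of_compactSpace (s.snd j).left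
  have i2 : ∀ j, QuasiSeparatedSpace ((s.W ⋙ Over.forget S).obj j) := fun j =>
    quasiSeparatedSpace_of_quasiSeparated (s.snd j).left
  have i3 : ((Over.forget S).mapCone (s.cone sq)).pt.IsQuasiAffine := hT
  obtain ⟨j, hj⟩ := Scheme.exists_isQuasiAffine_of_isLimit (s.W ⋙ Over.forget S) _ hlim
  have h5 : IsIso (s.fst j) := (s.sq j).isIso_fst_of_isIso
  exact ⟨j, s.obj j, hj, ⟨asIso (s.fst j)⟩⟩

theorem exists_quasiAffine_of_limit [QuasiSeparatedSpace ↥S] (hD : ∀ i, IsAlgSpace (D.obj i))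
    (hDa : ∀ (i j : I) (φ : i ⟶ j), IsAffineMor (D.map φ)) {c : Cone D} (hc : IsLimit c)
    (hqc : ∀ i, IsQuasiCompactSp (D.obj i)) (hqs : ∀ i, IsQuasiSeparatedSp (D.obj i))
    {T : Over S} (hT : T.left.IsQuasiAffine) (e : (yon S).obj T ≅ c.pt) :
    ∃ (i : I) (T' : Over S), T'.left.IsQuasiAffine ∧ Nonempty ((yon S).obj T' ≅ D.obj i) := by
  obtain ⟨i, X, ⟨eX⟩⟩ := exists_rep_of_limit hD hDa hc hqc hqs T e
  obtain ⟨j, T', h1, h2⟩ := exists_quasiAffine_of_rep hDa hc hT e (hqc i) (hqs i) eX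
  exact ⟨j.left, T', h1, h2⟩

/-- In a quasi-affine scheme finite sets of points lie in affine opens. -/
theorem exists_affine_of_finite {X : Scheme.{u}} [X.IsQuasiAffine] (F : Set X) (hF : F.Finite) :
    ∃ V : X.Opens, IsAffineOpen V ∧ ∀ x ∈ F, x ∈ V := by
  obtain ⟨V', h1, -, h3, h4⟩ := ThmK.exists_affine_sub (X := Spec Γ(X, ⊤)) (V := ⊤)
    (isAffineOpen_top _) (Set.range X.toSpecΓ) X.toSpecΓ.isOpenEmbedding.isOpen_range
    (X.toSpecΓ '' F) (hF.image _) (fun _ _ => trivial) (by rintro _ ⟨x, -, rfl⟩; exact ⟨x, rfl⟩)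
  refine ⟨X.toSpecΓ ⁻¹ᵁ V', ?_, fun x hx => h4 _ ⟨x, hx, rfl⟩⟩
  exact h1.preimage_of_isOpenImmersion _ h3

open K604.Approx K604.LimFin K604.LimSep2 K598.RepKit

theorem exists_finite_quasiAffine [QuasiSeparatedSpace ↥S] (H33 : IntApprox S) {X : Sp S}
    (hX : IsAlgSpace X) (hqc : IsQuasiCompactSp X) (hqs : IsQuasiSeparatedSp X) {Y : Over S}
    (hY : Y.left.IsQuasiAffine) (g : (yon S).obj Y ⟶ X) (hg : RepWith @IsIntegralHom g)
    (hgs : RepWith @Surjective g) :
    ∃ (Y' : Over S) (g' : (yon S).obj Y' ⟶ X), Y'.left.IsQuasiAffine ∧ RepWith @IsFinite g' ∧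
      RepWith @Surjective g' := by
  obtain ⟨I, _, _, _, D, t, c, hc, e, hD, hDa, ht, he⟩ :=
    H33 (X := ⟨(yon S).obj Y, IsAlgSpace.yon_obj Y⟩) (Y := ⟨X, hX⟩) ⟨g⟩
    (isIntegralMor_iff'.2 hg) hqc hqs
  have haff : ∀ i, IsAffineMor (t.app i) := fun i => isAffineMor_of_isFiniteMor (ht i).1
  obtain ⟨i, Y', hY', ⟨ε⟩⟩ := exists_quasiAffine_of_limit hD hDa hc
    (fun i => K636.QcqsOver.isQuasiCompactSp_of_mor
      (K605.LimImg.isQuasiCompactMor_of_isAffineMor (hD i) hX (haff i)) hX hqc)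
    (fun i => K636.QcqsOver.isQuasiSeparatedSp_of_mor
      (isQuasiSeparatedMor_of_isAffineMor (haff i)) hqs) hY e.symm
  have hfin : RepWith @IsFinite (ε.hom ≫ t.app i) := MorphismProperty.comp_mem _ _ _
    (repWith_of_isIso _) (K634.FiniteMor.isFiniteMor_iff.1 (ht i).1)
  refine ⟨Y', ε.hom ≫ t.app i, hY', hfin, ?_⟩
  rw [K609.Points.repWith_surjective_iff hfin.1]
  have h1 : IsSurjectiveMor g := K609.Points.surjective_map_of_repWith_surjective hgs
  have h2 : (e.inv ≫ c.π.app i ≫ ε.inv) ≫ (ε.hom ≫ t.app i) = g := by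
    rw [Category.assoc, Category.assoc, ε.inv_hom_id_assoc, he]
  rw [← h2] at h1
  exact K604.FinCover.surj_of_factor h1

/-- **Theorem K for integral morphisms.** -/
theorem inAffine_of_integral [QuasiSeparatedSpace ↥S] (H33 : IntApprox S) {X : Sp S}
    (hX : IsAlgSpace X) (hN : IsLocNoethSp X) (hqs : IsQuasiSeparatedSp X) {Y : Over S}
    (g : (yon S).obj Y ⟶ X) (hg : RepWith @IsIntegralHom g)
    (hgs : RepWith @Surjective g) (E : Set (Points X)) (hE : E.Finite) (U : Y.left.Opens)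
    (hU : IsAffineOpen U) (hEU : ∀ y, Points.ofPt g y ∈ E → y ∈ U) : Sat.InAffine X E := by
  have hclosed : IsClosedMap (Points.ofPt g) := by
    have h1 : IsClosedMap (Points.map g) := K596.Univ.isClosedMap_of_repWith
      (K596.Univ.repWith_mono (Q := @IsIntegralHom) (Q' := @UniversallyClosed) (fun _ _ f hf => by
        have : IsIntegralHom f := hf
        infer_instance) hg)
    have h2 : Points.ofPt g = Points.map g ∘ (Points.schemeHomeo Y) := by
      ext t
      exact Points.ofPt_eq_map_ofScheme g t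
    rw [h2]
    exact h1.comp (Points.schemeHomeo Y).isClosedMap
  let W0 : Set (Points X) := (Points.ofPt g '' (U : Set Y.left)ᶜ)ᶜ
  have hW0 : IsOpen W0 := (hclosed _ U.2.isClosed_compl).isOpen_compl
  have hEW : E ⊆ W0 := by
    rintro x hx ⟨y, hy, rfl⟩
    exact hy (hEU y hx)
  have hnhd : ∀ x ∈ E, ∃ V : Set (Points X), IsOpen V ∧ IsCompact V ∧ x ∈ V ∧ V ⊆ W0 := fun x hx =>
    K609.QC.exists_isOpen_isCompact_nhd hX x W0 hW0 (hEW hx)
  choose! N hN1 hN2 hN3 hN4 using hnhd
  let G0 : Set (Points X) := ⋃ x ∈ E, N x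
  have hG0 : IsOpen G0 := isOpen_biUnion fun x hx => hN1 x hx
  have hG0c : IsCompact G0 := hE.isCompact_biUnion fun x hx => hN2 x hx
  have hG0W : G0 ⊆ W0 := Set.iUnion₂_subset fun x hx => hN4 x hx
  have hEG : E ⊆ G0 := fun x hx => Set.mem_biUnion hx (hN3 x hx)
  have hι := K610.Sub.repWith_openPred hG0
  have hrange := K610.Sub.range_openPred (X := X) G0
  set G := (K610.Sub.openPred (X := X) G0).sub with hGdef
  set ι : G ⟶ X := (K610.Sub.openPred (X := X) G0).ι with hιdef
  have hG : IsAlgSpace G := K610.Sub.isAlgSpace_of_mono hι.1 hX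
  have hNG : IsLocNoethSp G := Sat.isLocNoethSp_of_repWith hN
    (K606.RepWithBasic.mono (fun _ _ f hf => by
      have : IsOpenImmersion f := hf
      infer_instance) hι)
  have hemb := K610.OpenImm.isOpenEmbedding_points hX hι
  have hqcG : IsQuasiCompactSp G := by
    rw [K609.QC.isQuasiCompactSp_iff hG]
    refine ⟨?_⟩
    rw [hemb.isInducing.isCompact_iff, Set.image_univ, hrange]
    exact hG0c
  have hqsG : IsQuasiSeparatedSp G :=
    K606.RepWithBasic.of_isPullback (K610.Sub.diag_pullback_of_mono ι).flip hqs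
  -- the quasi-affine cover
  obtain ⟨O, o, fst, sq⟩ := hι.1 g
  have ho : IsOpenImmersion o.left := hι.2 g fst o sq
  have hfst : RepWith @IsIntegralHom fst := K606.RepWithBasic.of_isPullback sq.flip hg
  have hfsts : RepWith @Surjective fst := K606.RepWithBasic.of_isPullback sq.flip hgs
  have hOc : CompactSpace O.left := by
    obtain ⟨V, p, hV, hp, hps⟩ := K609.QC.exists_affine_chart hqcG
    obtain ⟨P, a, b, sqP⟩ := K609.Sep.exists_isPullback_yon hG.diag fst p
    have h1 : IsIntegralHom b.left := hfst.2 p _ b sqP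
    have h2 : Surjective a.left := hps.2 fst _ a sqP.flip
    have h3 : CompactSpace P.left := QuasiCompact.compactSpace_of_compactSpace b.left
    refine ⟨?_⟩
    rw [← a.left.surjective.range_eq]
    exact isCompact_range a.left.continuous
  have hOU : Set.range o.left ⊆ U := by
    rintro _ ⟨z, rfl⟩
    by_contra hz
    have h1 : Points.ofPt g (o.left z) ∈ G0 := by
      rw [← hrange]
      refine ⟨Points.ofPt fst z, ?_⟩
      rw [← K609.Points.ofPt_yon_map_comp, ← sq.w]
      rfl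
    exact hG0W h1 ⟨_, hz, rfl⟩
  have hOq : O.left.IsQuasiAffine := by
    let l : O.left ⟶ U.toScheme := IsOpenImmersion.lift U.ι o.left (by
      rw [Scheme.Opens.range_ι]; exact hOU)
    have hl : l ≫ U.ι = o.left := IsOpenImmersion.lift_fac _ _ _
    have h1 : IsOpenImmersion (l ≫ U.ι) := by rw [hl]; exact ho
    have h2 : IsOpenImmersion l := IsOpenImmersion.of_comp l U.ι
    have hUa : IsAffine U.toScheme := hU
    exact Scheme.IsQuasiAffine.of_isImmersion l
  obtain ⟨Y', g', hY', hg', hgs'⟩ := exists_finite_quasiAffine H33 hG hqcG hqsG hOq fst hfst hfsts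
  have hE' : (Points.map ι ⁻¹' E).Finite := hE.preimage hemb.injective.injOn
  obtain ⟨V, hV, hFV⟩ := exists_affine_of_finite (X := Y'.left) _ (ThmK.finite_preimage hG hg' hE')
  have key := ThmK.good hG hNG Y' g' hg' hgs' _ hE' V hV fun y hy => hFV y hy
  refine (key.of_open hι).mono ?_
  intro x hx
  have h1 : x ∈ Set.range (Points.map ι) := by rw [hrange]; exact hEG hx
  obtain ⟨z, rfl⟩ := h1
  exact ⟨z, hx, rfl⟩

end K650.QAff
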