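import Groth.Agent.AlgSp.K622.AnDefs2
import Groth.Agent.Sga3C.LocConn
import Mathlib.AlgebraicGeometry.Geometrically.Integral
import Mathlib.AlgebraicGeometry.Morphisms.Smooth

/-!
# An open part of the reduced identity component of a group scheme over a field

`main`: `i : H ⟶ A` a closed immersion onto the identity component, `H` smooth and geometrically integral,
`jA : V ⟶ A` an open immersion containing the unit; then `U = H ×_A V ⟶ V` is a closed immersion with open
range and `U` is smooth and geometrically integral, with a rational point.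
-/

set_option autoImplicit false
universe u

open CategoryTheory CategoryTheory.Limits AlgebraicGeometry MonoidalCategory CartesianMonoidalCategory MonObj

namespace K650.ArcOpen

/-- An open subscheme with a rational point of a geometrically integral scheme. -/
theorem geometricallyIntegral_of_open {K : Type u} [Field K] {U H : Scheme.{u}} (j : U ⟶ H) [IsOpenImmersion j]
    (h : H ⟶ Spec (CommRingCat.of K)) [GeometricallyIntegral h] (e : Spec (CommRingCat.of K) ⟶ U)
    (he : e ≫ j ≫ h = 𝟙 _) : GeometricallyIntegral (j ≫ h) := by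
  refine ⟨fun L _ y Z fst snd sq => ?_⟩
  have hY : IsIntegral (pullback h y) :=
    GeometricallyIntegral.geometrically_isIntegral y _ _ (IsPullback.of_hasPullback h y)
  have sq' := IsPullback.of_bot' sq (IsPullback.of_hasPullback h y)
  have hlo := MorphismProperty.of_isPullback (P := @IsOpenImmersion) sq' inferInstance
  have hne : Nonempty ↥Z := by
    let z : Spec (CommRingCat.of L) ⟶ Z :=
      sq.lift (y ≫ e) (𝟙 _) (by rw [Category.assoc, he, Category.comp_id, Category.id_comp])
    exact ⟨z (IsLocalRing.closedPoint L)⟩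
  exact isIntegral_of_isOpenImmersion ((IsPullback.of_hasPullback h y).lift (fst ≫ j) snd _)

theorem main {K : Type u} [Field K] (A H : Over (Spec (CommRingCat.of K))) [GrpObj A] [GrpObj H]
    [LocallyOfFiniteType A.hom] (i : H ⟶ A) [IsClosedImmersion i.left] [Smooth H.hom]
    [GeometricallyIntegral H.hom]
    (hr : Set.range i.left = connectedComponent
      ((η[A] : 𝟙_ (Over (Spec (CommRingCat.of K))) ⟶ A).left (IsLocalRing.closedPoint K)))
    (hη : η[H] ≫ i = η[A]) {V : Scheme.{u}} (jA : V ⟶ A.left) [IsOpenImmersion jA]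
    (eV : Spec (CommRingCat.of K) ⟶ V)
    (he : eV ≫ jA = (η[A] : 𝟙_ (Over (Spec (CommRingCat.of K))) ⟶ A).left) :
    IsClosedImmersion (pullback.snd i.left jA) ∧ IsOpen (Set.range (pullback.snd i.left jA)) ∧
      Smooth (pullback.snd i.left jA ≫ jA ≫ A.hom) ∧
      GeometricallyIntegral (pullback.snd i.left jA ≫ jA ≫ A.hom) ∧
      ∃ eU : Spec (CommRingCat.of K) ⟶ pullback i.left jA, eU ≫ pullback.snd i.left jA = eV := by
  have hN : IsLocallyNoetherian A.left := LocallyOfFiniteType.isLocallyNoetherian A.hom
  have hLC : LocallyConnectedSpace ↥A.left := Groth.Agent.Sga3C.LocConn.locallyConnectedSpace_of_isLocallyNoetherian A.left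
  have h1 : pullback.snd i.left jA ≫ jA ≫ A.hom = pullback.fst i.left jA ≫ H.hom := by
    rw [← Category.assoc, ← pullback.condition, Category.assoc, Over.w]
  have h2 : (η[H] : 𝟙_ (Over (Spec (CommRingCat.of K))) ⟶ H).left ≫ i.left = eV ≫ jA := by
    rw [he, ← hη]; rfl
  refine ⟨inferInstance, ?_, ?_, ?_, ?_⟩
  · rw [Scheme.Pullback.range_snd, hr]
    exact isOpen_connectedComponent.preimage jA.continuous
  · rw [h1]; infer_instance
  · rw [h1]
    refine geometricallyIntegral_of_open _ _ (pullback.lift _ eV h2) ?_
    rw [pullback.lift_fst_assoc]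
    exact Over.w (η[H] : 𝟙_ (Over (Spec (CommRingCat.of K))) ⟶ H)
  · exact ⟨pullback.lift _ eV h2, pullback.lift_snd _ _ _⟩

end K650.ArcOpen
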