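import Groth.Agent.AlgSp.K622.CoreC
import Mathlib.AlgebraicGeometry.Geometrically.Integral
import Mathlib.AlgebraicGeometry.Morphisms.IsIso
import Groth.Agent.AlgSp.K596.Mono

/-!
# The generic group acts on the generic fibres of the models

`main : K622.CoreC.NodeC2`: `H` a geometrically integral group over `K = Frac R` with a homomorphism to the
group `G` over `R`, `X` an open subspace of a `G`-space `M` closed fibre by fibre, `Xs ≅ X` a scheme; then `H`
acts on every open and closed geometrically integral part of the generic fibre of `Xs`.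
-/

set_option autoImplicit false
universe u

open CategoryTheory CategoryTheory.Limits AlgebraicGeometry MonoidalCategory CartesianMonoidalCategory MonObj AlgSp

namespace K650.CoreC2

open K622.AnDefs K622.AnDefs2 K612.OrbFlat K622.CoreC

noncomputable section

section Fib

variable {K : Type u} [Field K]

/-- The point `z` of `A` as a scheme over `K`. -/
abbrev ptO {A : Over (Spec (CommRingCat.of K))} (z : ↥A.left) : Over (Spec (CommRingCat.of K)) :=
  Over.mk (A.left.fromSpecResidueField z ≫ A.hom)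

/-- The inclusion of a point. -/
abbrev ptι {A : Over (Spec (CommRingCat.of K))} (z : ↥A.left) : ptO z ⟶ A :=
  Over.homMk (A.left.fromSpecResidueField z) rfl

theorem isPullback_prod (H A : Over (Spec (CommRingCat.of K))) :
    IsPullback (fst H A).left (snd H A).left H.hom A.hom := IsPullback.of_hasPullback _ _

theorem isPullback_ptι (H A : Over (Spec (CommRingCat.of K))) (z : ↥A.left) :
    IsPullback (H ◁ ptι z).left (snd H (ptO z)).left (snd H A).left (A.left.fromSpecResidueField z) := by
  refine IsPullback.of_right (h₁₂ := (fst H A).left) (h₂₂ := A.hom) (v₁₃ := H.hom) ?_ ?_ (isPullback_prod H A)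
  · have h : (H ◁ ptι z).left ≫ (fst H A).left = (fst H (ptO z)).left := by
      rw [← Over.comp_left, whiskerLeft_fst]
    rw [h]
    exact isPullback_prod H (ptO z)
  · exact (Over.comp_left _ _ _ _ _).symm.trans
      ((congrArg (fun f => f.left) (whiskerLeft_snd H (ptι z))).trans (Over.comp_left _ _ _ _ _))

theorem exists_fib (H A : Over (Spec (CommRingCat.of K))) (t : ↥(H ⊗ A).left) :
    ∃ t' : ↥(H ⊗ ptO ((snd H A).left t)).left, (H ◁ ptι ((snd H A).left t)).left t' = t := by
  have h3 := isPullback_ptι H A ((snd H A).left t)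
  obtain ⟨s, hs⟩ : ∃ s, (A.left.fromSpecResidueField ((snd H A).left t)) s = (snd H A).left t :=
    ⟨IsLocalRing.closedPoint _, Scheme.fromSpecResidueField_apply _ _⟩
  obtain ⟨z, hz, -⟩ := Scheme.exists_preimage_of_isPullback h3 t s hs.symm
  exact ⟨z, hz⟩

theorem isIntegral_fib (H A : Over (Spec (CommRingCat.of K))) [GeometricallyIntegral H.hom] (z : ↥A.left) :
    IsIntegral (H ⊗ ptO z).left :=
  GeometricallyIntegral.geometrically_isIntegral (K := ↑(A.left.residueField z))
    (A.left.fromSpecResidueField z ≫ A.hom) _ _ (isPullback_prod H (ptO z))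

/-- A subset of `H × A` which is open and closed in the fibres over the points of `A` and which contains the
unit section is everything. -/
theorem eq_univ (H A : Over (Spec (CommRingCat.of K))) [GrpObj H] [GeometricallyIntegral H.hom]
    (U : Set ↥(H ⊗ A).left) (h1 : ∀ z : ↥A.left, IsClopen ((H ◁ ptι z).left ⁻¹' U))
    (h2 : ∀ a : ↥A.left, (lift (1 : A ⟶ H) (𝟙 A)).left a ∈ U) (t : ↥(H ⊗ A).left) : t ∈ U := by
  obtain ⟨t', ht'⟩ := exists_fib H A t
  have hI := isIntegral_fib H A ((snd H A).left t)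
  have hne : ((H ◁ ptι ((snd H A).left t)).left ⁻¹' U).Nonempty := by
    obtain ⟨s⟩ : Nonempty ↥(ptO ((snd H A).left t)).left :=
      ⟨(IsLocalRing.closedPoint _ : PrimeSpectrum ↑(A.left.residueField ((snd H A).left t)))⟩
    refine ⟨(lift (1 : ptO ((snd H A).left t) ⟶ H) (𝟙 _)).left s, ?_⟩
    rw [Set.mem_preimage, ← Scheme.Hom.comp_apply, ← Over.comp_left, lift_whiskerLeft, Category.id_comp]
    have h3 : lift (1 : ptO ((snd H A).left t) ⟶ H) (ptι ((snd H A).left t)) =
        ptι ((snd H A).left t) ≫ lift (1 : A ⟶ H) (𝟙 A) := by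
      rw [comp_lift, Category.comp_id, MonObj.comp_one]
    rw [h3, Over.comp_left, Scheme.Hom.comp_apply]
    exact h2 _
  have h4 := (h1 ((snd H A).left t)).eq_univ hne
  have h5 : t' ∈ (H ◁ ptι ((snd H A).left t)).left ⁻¹' U := h4 ▸ Set.mem_univ _
  rw [Set.mem_preimage, ht'] at h5
  exact h5

end Fib

section Pts

variable {R K : Type u} [CommRing R] [Field K] [Algebra R K]
  {G M : Over ((yon (Spec (CommRingCat.of R))).obj (Over.mk (𝟙 (Spec (CommRingCat.of R)))))} [GrpObj G]

/-- The point of `G` defined by a point of `H`. -/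
abbrev gp (D : HData R K G) {T : Over (Spec (CommRingCat.of K))} (a : T ⟶ D.H) :
    (yon (Spec (CommRingCat.of R))).obj ((Over.map (gn R K)).obj T) ⟶ G.left :=
  (yon (Spec (CommRingCat.of R))).map ((Over.map (gn R K)).map a) ≫ D.h

theorem gp_mul (D : HData R K G) {T : Over (Spec (CommRingCat.of K))} (a b : T ⟶ D.H) :
    gp D (a * b) = mul (gp D a) (gp D b) := D.hmul a b

theorem gp_one (D : HData R K G) (T : Over (Spec (CommRingCat.of K))) :
    gp D (1 : T ⟶ D.H) = (1 : ov ((yon (Spec (CommRingCat.of R))).obj ((Over.map (gn R K)).obj T)) ⟶ G).left := by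
  have h := gp_mul D (1 : T ⟶ D.H) 1
  rw [_root_.mul_one] at h
  have h2 := congrArg (mul (inv (gp D (1 : T ⟶ D.H)))) h
  rw [K612.OrbFlat.inv_mul', inv_mul_cancel'] at h2
  exact h2.symm

theorem comp_gp (D : HData R K G) {T T' : Over (Spec (CommRingCat.of K))} (r : T' ⟶ T) (a : T ⟶ D.H) :
    (yon (Spec (CommRingCat.of R))).map ((Over.map (gn R K)).map r) ≫ gp D a = gp D (r ≫ a) := by
  rw [gp, gp, Functor.map_comp, Functor.map_comp, Category.assoc]

variable {X : Sp (Spec (CommRingCat.of R))} (i : X ⟶ M.left) {Xs : Over (Spec (CommRingCat.of R))}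
  (eX : (yon (Spec (CommRingCat.of R))).obj Xs ≅ X) {XK : Over (Spec (CommRingCat.of K))}
  (x : (Over.map (gn R K)).obj XK ⟶ Xs)

/-- The point of `M` defined by a point of the generic fibre of `Xs`. -/
abbrev xp {T : Over (Spec (CommRingCat.of K))} (m : T ⟶ XK) :
    (yon (Spec (CommRingCat.of R))).obj ((Over.map (gn R K)).obj T) ⟶ M.left :=
  pt i eX ((Over.map (gn R K)).map m ≫ x)

theorem comp_xp {T T' : Over (Spec (CommRingCat.of K))} (r : T' ⟶ T) (m : T ⟶ XK) :
    (yon (Spec (CommRingCat.of R))).map ((Over.map (gn R K)).map r) ≫ xp i eX x m = xp i eX x (r ≫ m) := by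
  simp only [xp, pt, Functor.map_comp, Category.assoc]

theorem xp_inj [Mono i] (hx : IsPullback x.left XK.hom Xs.hom (gn R K)) {T : Over (Spec (CommRingCat.of K))}
    {m m' : T ⟶ XK} (h : xp i eX x m = xp i eX x m') : m = m' := by
  have h1 : (yon (Spec (CommRingCat.of R))).map ((Over.map (gn R K)).map m ≫ x) =
      (yon (Spec (CommRingCat.of R))).map ((Over.map (gn R K)).map m' ≫ x) := by
    rw [xp, xp, pt, pt, ← Category.assoc, ← Category.assoc, cancel_mono, cancel_mono] at h
    exact h
  have h2 := congrArg (fun f => f.left) ((yon (Spec (CommRingCat.of R))).map_injective h1)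
  have h3 : m.left ≫ x.left = m'.left ≫ x.left := h2
  refine Over.OverMorphism.ext (hx.hom_ext h3 ?_)
  rw [Over.w, Over.w]

theorem op_one_xp (act : GAction G M) (D : HData R K G) {T : Over (Spec (CommRingCat.of K))} (m : T ⟶ XK) :
    op act (gp D (1 : T ⟶ D.H)) (xp i eX x m) = xp i eX x m := by
  rw [gp_one, op_one]

/-- The group `H` acts on the generic fibre of `Xs`. -/
theorem exists_act (act : GAction G M) (hop : RepWith @IsOpenImmersion i) (hc : FibClosed i) (D : HData R K G)
    (hx : IsPullback x.left XK.hom Xs.hom (gn R K)) :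
    ∃ σ : D.H ⊗ XK ⟶ XK, xp i eX x σ = op act (gp D (fst D.H XK)) (xp i eX x (snd D.H XK)) := by
  obtain ⟨V, b, v, hV, hvo⟩ := K629.Basic.exists_pb hop
    (op act (gp D (fst D.H XK)) (xp i eX x (snd D.H XK)))
  have hop1 : ∀ {T : Over (Spec (CommRingCat.of K))} (r : T ⟶ D.H ⊗ XK),
      (yon (Spec (CommRingCat.of R))).map ((Over.map (gn R K)).map r) ≫
        op act (gp D (fst D.H XK)) (xp i eX x (snd D.H XK)) =
      op act (gp D (r ≫ fst D.H XK)) (xp i eX x (r ≫ snd D.H XK)) := by
    intro T r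
    rw [comp_op, comp_gp, comp_xp]
  have hsurj : Surjective v.left := by
    refine ⟨fun t => eq_univ D.H XK (Set.range v.left) (fun z => ?_) (fun a => ?_) t⟩
    · have sq1 := (IsPullback.of_hasPullback v ((Over.map (gn R K)).map (D.H ◁ ptι z)))
      have sq2 := (sq1.map (yon (Spec (CommRingCat.of R)))).paste_horiz hV
      have sq3 : IsPullback (pullback.fst v ((Over.map (gn R K)).map (D.H ◁ ptι z))).left
        (pullback.snd v ((Over.map (gn R K)).map (D.H ◁ ptι z))).left v.left (D.H ◁ ptι z).left :=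
        sq1.map (Over.forget _)
      have hrange : (D.H ◁ ptι z).left ⁻¹' (Set.range v.left) =
          Set.range (pullback.snd v ((Over.map (gn R K)).map (D.H ◁ ptι z))).left := by
        ext s
        constructor
        · rintro ⟨r, hr⟩
          obtain ⟨q, -, hq⟩ := Scheme.exists_preimage_of_isPullback sq3 r s hr
          exact ⟨q, hq⟩
        · rintro ⟨q, rfl⟩
          refine ⟨(pullback.fst v ((Over.map (gn R K)).map (D.H ◁ ptι z))).left q, ?_⟩
          rw [← Scheme.Hom.comp_apply, sq3.w]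
          rfl
      rw [hrange]
      refine ⟨hc _ ((XK.left.fromSpecResidueField z ≫ XK.hom) ≫ gn R K) _ _
        ((Over.map (gn R K)).map (snd D.H (ptO z))) _ _ _ sq2, ?_⟩
      have : IsOpenImmersion (pullback.snd v ((Over.map (gn R K)).map (D.H ◁ ptι z))).left :=
        MorphismProperty.of_isPullback (P := @IsOpenImmersion) sq3 hvo
      exact (pullback.snd v ((Over.map (gn R K)).map (D.H ◁ ptι z))).left.isOpenEmbedding.isOpen_range
    · have hw : ((yon (Spec (CommRingCat.of R))).map ((Over.map (gn R K)).map (𝟙 XK) ≫ x) ≫ eX.hom) ≫ i =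
          (yon (Spec (CommRingCat.of R))).map ((Over.map (gn R K)).map (lift (1 : XK ⟶ D.H) (𝟙 XK))) ≫
            op act (gp D (fst D.H XK)) (xp i eX x (snd D.H XK)) := by
        rw [hop1, lift_fst, lift_snd, op_one_xp, Category.assoc]
      obtain ⟨l, hl⟩ := (yon (Spec (CommRingCat.of R))).map_surjective (hV.lift _ _ hw)
      have hl2 : l ≫ v = (Over.map (gn R K)).map (lift (1 : XK ⟶ D.H) (𝟙 XK)) := by
        apply (yon (Spec (CommRingCat.of R))).map_injective
        rw [Functor.map_comp, hl, hV.lift_snd]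
      have hl3 : l.left ≫ v.left = (lift (1 : XK ⟶ D.H) (𝟙 XK)).left := congrArg (fun f => f.left) hl2
      refine ⟨l.left a, ?_⟩
      rw [← hl3, Scheme.Hom.comp_apply]
  have hiso : IsIso v.left := (isIso_iff_isOpenImmersion_and_surjective _).2 ⟨hvo, hsurj⟩
  have : IsIso ((Over.forget _).map v) := hiso
  have : IsIso v := isIso_of_reflects_iso v (Over.forget _)
  obtain ⟨w, hw⟩ := (yon (Spec (CommRingCat.of R))).map_surjective
    ((yon (Spec (CommRingCat.of R))).map (inv v) ≫ b ≫ eX.inv)
  have hw2 : pt i eX w = op act (gp D (fst D.H XK)) (xp i eX x (snd D.H XK)) := by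
    rw [pt, hw, Category.assoc, Category.assoc, Iso.inv_hom_id_assoc, hV.w, ← Category.assoc, ← Functor.map_comp,
      IsIso.inv_hom_id, CategoryTheory.Functor.map_id, Category.id_comp]
  have hw3 : w.left ≫ Xs.hom = (D.H ⊗ XK).hom ≫ gn R K := Over.w w
  refine ⟨Over.homMk (hx.lift w.left (D.H ⊗ XK).hom hw3) (hx.lift_snd _ _ _), ?_⟩
  rw [← hw2, xp]
  congr 1
  exact Over.OverMorphism.ext (hx.lift_fst _ _ _)

end Pts

section Red

variable {K : Type u} [Field K]

theorem isReduced_prod (H Y : Over (Spec (CommRingCat.of K))) [GeometricallyIntegral H.hom]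
    [GeometricallyIntegral Y.hom] : IsReduced (H ⊗ Y).left := by
  have h1 : IsIntegral Y.left := GeometricallyIntegral.isIntegral_of_subsingleton Y.hom
  have h2 : GeometricallyReduced (snd H Y).left :=
    MorphismProperty.of_isPullback (P := @GeometricallyReduced) (isPullback_prod H Y) inferInstance
  have h3 : Flat (snd H Y).left :=
    MorphismProperty.of_isPullback (P := @Flat) (isPullback_prod H Y) inferInstance
  have h4 : Finite ↑(irreducibleComponents ↥Y.left) := by
    rw [irreducibleComponents_eq_singleton]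
    infer_instance
  exact GeometricallyReduced.isReduced_of_flat_of_finite_irreducibleComponents (snd H Y).left

/-- Factorization through a closed immersion. -/
theorem exists_factor {Z Y X : Scheme.{u}} [IsReduced Z] (f : Z ⟶ X) (y : Y ⟶ X) [IsClosedImmersion y]
    (h : ∀ z, f z ∈ Set.range y) : ∃ g : Z ⟶ Y, g ≫ y = f := by
  have h1 : Surjective (pullback.fst f y) := by
    refine ⟨fun z => ?_⟩
    obtain ⟨w, hw⟩ := h z
    obtain ⟨q, hq, -⟩ := Scheme.exists_preimage_of_isPullback (IsPullback.of_hasPullback f y) z w hw.symm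
    exact ⟨q, hq⟩
  have h2 : IsIso (pullback.fst f y) := isIso_of_isClosedImmersion_of_surjective _
  exact ⟨inv (pullback.fst f y) ≫ pullback.snd f y, by rw [Category.assoc, ← pullback.condition, IsIso.inv_hom_id_assoc]⟩

end Red

/-- Restriction of an action-like map to an open and closed reduced part. -/
theorem exists_restr {K : Type u} [Field K] (H XK YK : Over (Spec (CommRingCat.of K))) [GrpObj H]
    [GeometricallyIntegral H.hom] [GeometricallyIntegral YK.hom] (σ : H ⊗ XK ⟶ XK)
    (hσ : lift (1 : XK ⟶ H) (𝟙 XK) ≫ σ = 𝟙 XK) (y : YK ⟶ XK) [IsClosedImmersion y.left]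
    (hy : IsOpen (Set.range y.left)) : ∃ ρ : H ⊗ YK ⟶ YK, ρ ≫ y = (H ◁ y) ≫ σ := by
  have h1 : IsReduced (H ⊗ YK).left := isReduced_prod H YK
  have hcl : IsClopen (Set.range y.left) := ⟨y.left.isClosedEmbedding.isClosed_range, hy⟩
  obtain ⟨g, hg⟩ := exists_factor ((H ◁ y) ≫ σ).left y.left (fun t => by
    refine eq_univ H YK (((H ◁ y) ≫ σ).left ⁻¹' Set.range y.left) (fun z => ?_) (fun a => ?_) t
    · rw [← Set.preimage_comp]
      exact hcl.preimage (((H ◁ y) ≫ σ).left.continuous.comp (H ◁ ptι z).left.continuous)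
    · refine ⟨a, ?_⟩
      rw [← Scheme.Hom.comp_apply, ← Over.comp_left]
      have h3 : lift (1 : YK ⟶ H) (𝟙 YK) ≫ (H ◁ y) ≫ σ = y := by
        rw [lift_whiskerLeft_assoc, Category.id_comp]
        have h4 : lift (1 : YK ⟶ H) y = y ≫ lift (1 : XK ⟶ H) (𝟙 XK) := by
          rw [comp_lift, Category.comp_id, MonObj.comp_one]
        rw [h4, Category.assoc, hσ, Category.comp_id]
      rw [h3])
  refine ⟨Over.homMk g ?_, Over.OverMorphism.ext hg⟩
  rw [← Over.w y, ← Category.assoc, hg, Over.w]

theorem main : NodeC2.{u} := by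
  intro R K _ _ _ _ _ G M _ act X i hs hc D Xs eX XK YK x hx y hy hyo hY
  have hmono : Mono i := K596.Mono.mono_of_repWith (fun _ _ f (_ : IsOpenImmersion f) => inferInstance) hs.op
  obtain ⟨σ, hσ⟩ := exists_act i eX x act hs.op hc D hx
  have hσ1 : ∀ {T : Over (Spec (CommRingCat.of K))} (a : T ⟶ D.H) (m : T ⟶ XK),
      xp i eX x (lift a m ≫ σ) = op act (gp D a) (xp i eX x m) := by
    intro T a m
    rw [← comp_xp, hσ, comp_op, comp_gp, comp_xp, lift_fst, lift_snd]
  obtain ⟨ρ, hρ⟩ := exists_restr D.H XK YK σ (xp_inj i eX x hx (by rw [hσ1, op_one_xp])) y hyo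
  have hρ1 : ∀ {T : Over (Spec (CommRingCat.of K))} (a : T ⟶ D.H) (z : T ⟶ YK),
      xp i eX x (lift a z ≫ ρ ≫ y) = op act (gp D a) (xp i eX x (z ≫ y)) := by
    intro T a z
    rw [hρ, lift_whiskerLeft_assoc, hσ1]
  have hyi : ∀ {T : Over (Spec (CommRingCat.of K))} {z z' : T ⟶ YK},
      xp i eX x (z ≫ y) = xp i eX x (z' ≫ y) → z = z' := by
    intro T z z' h
    have h1 := xp_inj i eX x hx h
    have : Mono y := Over.mono_of_mono_left y
    exact (cancel_mono y).1 h1
  refine ⟨ρ, ?_, ?_, fun T a z => hρ1 a z⟩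
  · apply hyi
    rw [Category.assoc, Category.id_comp]
    have h1 : lift (toUnit YK ≫ η[D.H]) (𝟙 YK) = lift (1 : YK ⟶ D.H) (𝟙 YK) := rfl
    rw [h1, hρ1, op_one_xp, Category.id_comp]
  · have key : ∀ {T : Over (Spec (CommRingCat.of K))} (a b : T ⟶ D.H) (z : T ⟶ YK),
        lift (a * b) z ≫ ρ = lift a (lift b z ≫ ρ) ≫ ρ := by
      intro T a b z
      apply hyi
      rw [Category.assoc, Category.assoc, hρ1, hρ1, gp_mul, op_mul, Category.assoc, hρ1]
    have h2 := key (fst (D.H ⊗ D.H) YK ≫ fst D.H D.H) (fst (D.H ⊗ D.H) YK ≫ snd D.H D.H) (snd (D.H ⊗ D.H) YK)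
    have h3 : lift ((fst (D.H ⊗ D.H) YK ≫ fst D.H D.H) * (fst (D.H ⊗ D.H) YK ≫ snd D.H D.H))
        (snd (D.H ⊗ D.H) YK) = μ[D.H] ▷ YK := by
      rw [Hom.mul_def, ← comp_lift, lift_fst_snd, Category.comp_id]
      apply CartesianMonoidalCategory.hom_ext
      · rw [lift_fst, whiskerRight_fst]
      · rw [lift_snd, whiskerRight_snd]
    have h4 : lift (fst (D.H ⊗ D.H) YK ≫ fst D.H D.H)
        (lift (fst (D.H ⊗ D.H) YK ≫ snd D.H D.H) (snd (D.H ⊗ D.H) YK) ≫ ρ) =
        (α_ D.H D.H YK).hom ≫ (D.H ◁ ρ) := by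
      apply CartesianMonoidalCategory.hom_ext
      · rw [lift_fst, Category.assoc, whiskerLeft_fst, associator_hom_fst]
      · rw [lift_snd, Category.assoc, whiskerLeft_snd, ← Category.assoc]
        congr 1
        apply CartesianMonoidalCategory.hom_ext
        · rw [lift_fst, Category.assoc, associator_hom_snd_fst]
        · rw [lift_snd, Category.assoc, associator_hom_snd_snd]
    rw [h3, h4, Category.assoc] at h2
    exact h2

end

end K650.CoreC2

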