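import Mathlib
import Groth.Prelude
import Groth.Agent.AlgSp.K642.ChowCoprod
import Groth.Agent.AlgSp.K650.ThmK

set_option autoImplicit false
set_option backward.isDefEq.respectTransparency.types false
universe u v
open CategoryTheory CategoryTheory.Limits AlgebraicGeometry Opposite AlgSp
open K642.ChowCoprod

namespace K650.Two

variable {S : Scheme.{u}} {X : Sp S}

theorem isPullback_yon {A B C D : Over S} {fst : A ⟶ B} {snd : A ⟶ C} {f : B ⟶ D} {g : C ⟶ D}
    (h : IsPullback fst snd f g) :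
    IsPullback ((yon S).map fst) ((yon S).map snd) ((yon S).map f) ((yon S).map g) := h.map (yon S)

theorem range_fst {A B C D : Scheme.{u}} {fst : A ⟶ B} {snd : A ⟶ C} {f : B ⟶ D} {g : C ⟶ D}
    (h : IsPullback fst snd f g) [IsOpenImmersion g] (x : B) :
    (∃ y, fst y = x) ↔ ∃ z, g z = f x := by
  have h2 : x ∈ (pullback.fst f g).opensRange ↔ x ∈ f ⁻¹ᵁ g.opensRange := by
    rw [← Scheme.Hom.opensRange_pullbackFst g f]
  refine Iff.trans ?_ h2
  constructor
  · rintro ⟨y, rfl⟩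
    refine ⟨h.isoPullback.hom y, ?_⟩
    rw [← Scheme.Hom.comp_apply, h.isoPullback_hom_fst]
  · rintro ⟨y, rfl⟩
    refine ⟨h.isoPullback.inv y, ?_⟩
    rw [← Scheme.Hom.comp_apply, h.isoPullback_inv_fst]

theorem exists_two (hX : IsAlgSpace X) {T₁ T₂ : Over S} (g₁ : (yon S).obj T₁ ⟶ X)
    (g₂ : (yon S).obj T₂ ⟶ X) (h₁ : RepWith @IsFinite g₁) (h₂ : RepWith @IsFinite g₂) :
    ∃ g : (yon S).obj (cop T₁ T₂) ⟶ X, (yon S).map (cinl T₁ T₂) ≫ g = g₁ ∧
      (yon S).map (cinr T₁ T₂) ≫ g = g₂ ∧ RepWith @IsFinite g := by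
  obtain ⟨g, hg1, hg2⟩ := exists_desc g₁ g₂
  have hg : Representable g := Functor.relativelyRepresentable.of_diag hX.diag g
  refine ⟨g, hg1, hg2, hg, ?_⟩
  intro T V q fst snd sq
  obtain ⟨s, rfl⟩ := (yon S).map_surjective fst
  have hol := isOpenImmersion_cinl T₁ T₂
  have hor := isOpenImmersion_cinr T₁ T₂
  -- the two pieces
  have key : ∀ (T' : Over S) (i : T' ⟶ cop T₁ T₂) (g' : (yon S).obj T' ⟶ X),
      (yon S).map i ≫ g = g' → RepWith @IsFinite g' → IsOpenImmersion i.left →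
      ∃ (V' : Over S) (β : V' ⟶ V), IsFinite (β ≫ snd).left ∧ IsOpenImmersion β.left ∧
        ∀ x, (∃ y, β.left y = x) ↔ ∃ z, i.left z = s.left x := by
    intro T' i g' hi hg' hop
    have sq1 := IsPullback.of_hasPullback s i
    have sq2 := (sq1.map (Over.forget S))
    have hop' : IsOpenImmersion (pullback.fst s i).left := by
      exact MorphismProperty.of_isPullback (P := @IsOpenImmersion) sq2.flip hop
    have hop2 : IsOpenImmersion ((Over.forget S).map i) := hop
    refine ⟨_, pullback.fst s i, ?_, hop', fun x => range_fst sq2 x⟩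
    · have := hg'.2 q ((yon S).map (pullback.snd s i)) (pullback.fst s i ≫ snd) (by
        rw [Functor.map_comp, ← hi]
        exact IsPullback.paste_vert (isPullback_yon sq1).flip sq)
      exact this
  obtain ⟨V₁, β₁, hb₁, ho₁, hr₁⟩ := key T₁ (cinl T₁ T₂) g₁ hg1 h₁ hol
  obtain ⟨V₂, β₂, hb₂, ho₂, hr₂⟩ := key T₂ (cinr T₁ T₂) g₂ hg2 h₂ hor
  have hcompl : IsCompl (coprod.inl : T₁.left ⟶ T₁.left ⨿ T₂.left).opensRange
      (coprod.inr : T₂.left ⟶ T₁.left ⨿ T₂.left).opensRange := isCompl_opensRange_inl_inr _ _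
  have hc : IsCompl β₁.left.opensRange β₂.left.opensRange := by
    constructor
    · rw [disjoint_iff]
      have := hcompl.inf_eq_bot
      ext x
      constructor
      · rintro ⟨h1, h2⟩
        have h4 : s.left x ∈ (coprod.inl : T₁.left ⟶ T₁.left ⨿ T₂.left).opensRange ⊓
          (coprod.inr : T₂.left ⟶ T₁.left ⨿ T₂.left).opensRange := ⟨(hr₁ x).1 h1, (hr₂ x).1 h2⟩
        rw [this] at h4
        exact h4
      · intro hx; exact hx.elim
    · rw [codisjoint_iff]
      ext x
      constructor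
      · intro _; trivial
      · intro _
        rcases mem_cop (s.left x) with h | h
        · exact Or.inl ((hr₁ x).2 h)
        · exact Or.inr ((hr₂ x).2 h)
  obtain ⟨hcol⟩ := nonempty_isColimit_binaryCofanMk_of_isCompl β₁.left β₂.left hc
  let e : V₁.left ⨿ V₂.left ≅ V.left := (coprodIsCoprod _ _).coconePointUniqueUpToIso hcol
  have he : e.hom ≫ snd.left = coprod.desc (β₁ ≫ snd).left (β₂ ≫ snd).left := by
    apply coprod.hom_ext
    · rw [coprod.inl_desc, ← Category.assoc]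
      have : coprod.inl ≫ e.hom = β₁.left :=
        (coprodIsCoprod _ _).comp_coconePointUniqueUpToIso_hom hcol ⟨WalkingPair.left⟩
      rw [this]; rfl
    · rw [coprod.inr_desc, ← Category.assoc]
      have : coprod.inr ≫ e.hom = β₂.left :=
        (coprodIsCoprod _ _).comp_coconePointUniqueUpToIso_hom hcol ⟨WalkingPair.right⟩
      rw [this]; rfl
  have hfin : IsFinite (e.hom ≫ snd.left) := by
    rw [he]; infer_instance
  exact (MorphismProperty.cancel_left_of_respectsIso @IsFinite e.hom snd.left).1 hfin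

/-- A monomorphism from a scheme is injective on points. -/
theorem ofPt_injective {T : Over S} {g : (yon S).obj T ⟶ X} [Mono g] : Function.Injective (Points.ofPt g) := by
  intro y y' h
  have sq : IsPullback ((yon S).map (𝟙 T)) ((yon S).map (𝟙 T)) g g := by
    rw [CategoryTheory.Functor.map_id]
    exact IsKernelPair.id_of_mono g
  obtain ⟨r, h1, h2⟩ := (K609.Points.ofPt_eq_ofPt_iff sq y y').1 h
  exact h1.symm.trans h2

theorem exists_affine_nhd {T : Over S} {g : (yon S).obj T ⟶ X} [Mono g] (x : Points X) :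
    ∃ V : T.left.Opens, IsAffineOpen V ∧ ∀ y, Points.ofPt g y = x → y ∈ V := by
  by_cases h : ∃ y, Points.ofPt g y = x
  · obtain ⟨y, hy⟩ := h
    obtain ⟨V, hV, hyV, -⟩ := exists_isAffineOpen_mem_and_subset (U := (⊤ : T.left.Opens))
      (x := y) trivial
    refine ⟨V, hV, fun y' hy' => ?_⟩
    rwa [ofPt_injective (hy'.trans hy.symm)]
  · exact ⟨⊥, isAffineOpen_bot _, fun y hy => (h ⟨y, hy⟩).elim⟩

/-- A locally Noetherian algebraic space which is the union of two closed subspaces which are schemes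
is a scheme. -/
theorem inAffine_of_two (hX : IsAlgSpace X) (hN : IsLocNoethSp X) {T₁ T₂ : Over S}
    (g₁ : (yon S).obj T₁ ⟶ X) (g₂ : (yon S).obj T₂ ⟶ X) (h₁ : RepWith @IsClosedImmersion g₁)
    (h₂ : RepWith @IsClosedImmersion g₂)
    (hcov : ∀ x : Points X, x ∈ Set.range (Points.ofPt g₁) ∨ x ∈ Set.range (Points.ofPt g₂))
    (x : Points X) : Sat.InAffine X {x} := by
  have hm₁ : Mono g₁ := K610.Factor.mono_of_isClosedImmersion h₁
  have hm₂ : Mono g₂ := K610.Factor.mono_of_isClosedImmersion h₂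
  obtain ⟨g, hg1, hg2, hfin⟩ := exists_two hX g₁ g₂ (ThmK.repWith_finite_of_closed h₁)
    (ThmK.repWith_finite_of_closed h₂)
  have hol := isOpenImmersion_cinl T₁ T₂
  have hor := isOpenImmersion_cinr T₁ T₂
  have hl : ∀ y, Points.ofPt g ((cinl T₁ T₂).left y) = Points.ofPt g₁ y := fun y => by
    rw [← hg1, K609.Points.ofPt_yon_map_comp]
  have hr : ∀ y, Points.ofPt g ((cinr T₁ T₂).left y) = Points.ofPt g₂ y := fun y => by
    rw [← hg2, K609.Points.ofPt_yon_map_comp]
  have hsurj : RepWith @Surjective g := by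
    rw [K609.Points.repWith_surjective_iff hfin.1, ← K609.Points.surjective_ofPt_iff]
    intro x
    rcases hcov x with ⟨y, hy⟩ | ⟨y, hy⟩
    · exact ⟨_, (hl y).trans hy⟩
    · exact ⟨_, (hr y).trans hy⟩
  obtain ⟨V₁, hV₁, hx₁⟩ := exists_affine_nhd (g := g₁) x
  obtain ⟨V₂, hV₂, hx₂⟩ := exists_affine_nhd (g := g₂) x
  have hcompl : IsCompl (coprod.inl : T₁.left ⟶ T₁.left ⨿ T₂.left).opensRange
      (coprod.inr : T₂.left ⟶ T₁.left ⨿ T₂.left).opensRange := isCompl_opensRange_inl_inr _ _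
  refine ThmK.good hX hN _ g hfin hsurj {x} (Set.finite_singleton x)
    ((cinl T₁ T₂).left ''ᵁ V₁ ⊔ (cinr T₁ T₂).left ''ᵁ V₂) ?_ ?_
  · refine (hV₁.image_of_isOpenImmersion _).sup_of_disjoint (hV₂.image_of_isOpenImmersion _) ?_
    exact hcompl.disjoint.mono (Scheme.Hom.image_le_opensRange _ _) (Scheme.Hom.image_le_opensRange _ _)
  · intro y hy
    rcases mem_cop y with ⟨z, rfl⟩ | ⟨z, rfl⟩
    · exact Or.inl ⟨z, hx₁ z ((hl z).symm.trans hy), rfl⟩
    · exact Or.inr ⟨z, hx₂ z ((hr z).symm.trans hy), rfl⟩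

end K650.Two
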