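import Mathlib

set_option autoImplicit false
universe u
open scoped TensorProduct

namespace K650.AlgH1

section core

variable {A1 A2 C D D1 M1 : Type*} [CommRing A1] [CommRing A2] [CommRing C] [CommRing D] [CommRing D1]
  [Algebra A1 A2] [Algebra C D] [Algebra A1 D1] [Algebra C D1]
  [AddCommGroup M1] [Module A1 M1] [Module D1 M1] [Module C M1]
  [IsScalarTower A1 D1 M1] [IsScalarTower C D1 M1]

/-- `x ↦ [x • m]` -/
noncomputable def act (N : Submodule C M1) : M1 →+ (D1 →ₗ[C] M1 ⧸ N) where
  toFun m := N.mkQ ∘ₗ ((LinearMap.toSpanSingleton D1 M1 m).restrictScalars C)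
  map_zero' := by
    ext x; simp
  map_add' m m' := by
    ext x
    simp

@[simp] theorem act_apply (N : Submodule C M1) (m : M1) (x : D1) :
    act (D1 := D1) N m x = N.mkQ (x • m) := rfl

/-- `(m, z) ↦ (act m ⊗ id) z` -/
noncomputable def actT (N : Submodule C M1) : M1 →+ (D1 ⊗[C] D →+ (M1 ⧸ N) ⊗[C] D) where
  toFun m := ((act (D1 := D1) N m).rTensor D).toAddMonoidHom
  map_zero' := by
    ext z
    simp
  map_add' m m' := by
    ext z
    simp [LinearMap.rTensor_add]

theorem actT_tmul (N : Submodule C M1) (m : M1) (x : D1) (d : D) :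
    actT N m (x ⊗ₜ[C] d) = N.mkQ (x • m) ⊗ₜ[C] d := rfl

theorem actT_mul (N : Submodule C M1) (m : M1) (x : D1) (z : D1 ⊗[C] D) :
    actT N m ((x ⊗ₜ[C] (1 : D)) * z) = actT N (x • m) z := by
  induction z using TensorProduct.induction_on with
  | zero => simp
  | tmul y d =>
    rw [Algebra.TensorProduct.tmul_mul_tmul, actT_tmul, actT_tmul, one_mul, mul_comm, mul_smul]
  | add a b ha hb => rw [mul_add, map_add, map_add, ha, hb]

/-- The descent argument for the vanishing of the first Cech cohomology group: a cocycle which becomes a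
coboundary after the faithfully flat base change `C → D` is a coboundary. -/
theorem core [Module.Flat A1 A2] [Module.FaithfullyFlat C D] (ψ : A2 →+* D1 ⊗[C] D)
    (hψ : ∀ a, ψ (algebraMap A1 A2 a) = algebraMap A1 D1 a ⊗ₜ 1)
    (ι : M1 →ₗ[A1] A1) (hι : Function.Injective ι) (N : Submodule C M1) (c : M1)
    (hc : algebraMap A1 A2 (ι c) ∈ AddSubgroup.closure {x : A2 | ∃ n ∈ N, ∃ (α : A2) (d : D),
      ψ α = 1 ⊗ₜ d ∧ x = algebraMap A1 A2 (ι n) * α}) : c ∈ N := by
  classical
  let q : M1 ⊗[A1] A2 →+ (M1 ⧸ N) ⊗[C] D :=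
    TensorProduct.liftAddHom
      { toFun := fun m => (actT N m).comp ψ.toAddMonoidHom
        map_zero' := by ext a; simp
        map_add' := fun m m' => by ext a; simp }
      (by
        intro r m a
        change actT N (r • m) (ψ a) = actT N m (ψ (r • a))
        rw [Algebra.smul_def, map_mul, hψ, actT_mul, algebraMap_smul])
  have hq : ∀ m a, q (m ⊗ₜ a) = actT N m (ψ a) := fun m a => rfl
  let μ : M1 ⊗[A1] A2 →ₗ[A1] A1 ⊗[A1] A2 := ι.rTensor A2
  have hμ : Function.Injective μ := Module.Flat.rTensor_preserves_injective_linearMap ι hι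
  let ν : M1 ⊗[A1] A2 →ₗ[A1] A2 := (TensorProduct.lid A1 A2).toLinearMap ∘ₗ μ
  have hν : Function.Injective ν := (TensorProduct.lid A1 A2).injective.comp hμ
  have hν' : ∀ m a, ν (m ⊗ₜ a) = algebraMap A1 A2 (ι m) * a := by
    intro m a
    change (TensorProduct.lid A1 A2) (ι m ⊗ₜ a) = _
    rw [TensorProduct.lid_tmul, Algebra.smul_def]
  have aux : ∀ z ∈ AddSubgroup.closure {x : A2 | ∃ n ∈ N, ∃ (α : A2) (d : D),
      ψ α = 1 ⊗ₜ d ∧ x = algebraMap A1 A2 (ι n) * α}, ∃ w, ν w = z ∧ q w = 0 := by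
    intro z hz
    induction hz using AddSubgroup.closure_induction with
    | mem x hx =>
      obtain ⟨n, hn, α, d, hα, rfl⟩ := hx
      refine ⟨n ⊗ₜ α, hν' _ _, ?_⟩
      rw [hq, hα, actT_tmul, one_smul]
      have : N.mkQ n = 0 := by
        rw [Submodule.mkQ_apply, Submodule.Quotient.mk_eq_zero]
        exact hn
      rw [this, TensorProduct.zero_tmul]
    | zero => exact ⟨0, map_zero _, map_zero _⟩
    | add x y _ _ hx hy =>
      obtain ⟨w, hw, hw'⟩ := hx
      obtain ⟨v, hv, hv'⟩ := hy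
      exact ⟨w + v, by rw [map_add, hw, hv], by rw [map_add, hw', hv', add_zero]⟩
    | neg x _ hx =>
      obtain ⟨w, hw, hw'⟩ := hx
      exact ⟨-w, by rw [map_neg, hw], by rw [map_neg, hw', neg_zero]⟩
  obtain ⟨w, hw, hw'⟩ := aux _ hc
  have key : c ⊗ₜ[A1] (1 : A2) = w := by
    apply hν
    rw [hν', mul_one, hw]
  have h1 := congrArg q key
  rw [hq, map_one, Algebra.TensorProduct.one_def, actT_tmul, one_smul, hw'] at h1
  have h3 : (1 : D) ⊗ₜ[C] (N.mkQ c) = 0 := by
    apply (TensorProduct.comm C D (M1 ⧸ N)).injective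
    rw [TensorProduct.comm_tmul, map_zero]
    exact h1
  rw [Module.FaithfullyFlat.one_tmul_eq_zero_iff, Submodule.mkQ_apply,
    Submodule.Quotient.mk_eq_zero] at h3
  exact h3

end core

/-- Vanishing of `H^1` for the ideal `J` on an etale affine presentation `A0 ⇉ A1`, where `J J' = 0` and the
closed subspace `V(J')` is the affine scheme `Spec C`. -/
theorem h1 {A0 A1 A2 C D : Type*} [CommRing A0] [CommRing A1] [CommRing A2] [CommRing C] [CommRing D]
    [Algebra A1 A2] [Module.Flat A1 A2] [Algebra C D] [Module.FaithfullyFlat C D]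
    (s t : A0 →+* A1) (p13 p23 : A1 →+* A2) (q3 : A0 →+* A2)
    (h13s : ∀ a, p13 (s a) = algebraMap A1 A2 (s a)) (h13t : ∀ a, p13 (t a) = q3 a)
    (h23s : ∀ a, p23 (s a) = algebraMap A1 A2 (t a)) (h23t : ∀ a, p23 (t a) = q3 a)
    (J J' : Ideal A0) (hJJ : J * J' = ⊥) (K K' : Ideal A1) (hKs : J.map s = K) (hKt : J.map t = K)
    (hK's : J'.map s = K') (c2 : A0 →+* D) (hc2 : Function.Surjective c2)
    [Algebra C (A1 ⧸ K')]
    (hCs : ∀ γ y, c2 y = algebraMap C D γ → algebraMap C (A1 ⧸ K') γ = Ideal.Quotient.mk K' (s y))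
    (hCt : ∀ γ y, c2 y = algebraMap C D γ → algebraMap C (A1 ⧸ K') γ = Ideal.Quotient.mk K' (t y))
    (hgen : ∀ α : A1 ⧸ K', α ∈ AddSubgroup.closure
      {x | ∃ y z, x = Ideal.Quotient.mk K' (s y * t z)})
    (ψ : A2 →+* (A1 ⧸ K') ⊗[C] D)
    (hψ1 : ∀ a, ψ (algebraMap A1 A2 a) = (Ideal.Quotient.mk K' a) ⊗ₜ 1)
    (hψ3 : ∀ y, ψ (q3 y) = 1 ⊗ₜ c2 y) (a0 : A0) (ha0 : s a0 - t a0 ∈ K) :
    ∃ m ∈ J, s m - t m = s a0 - t a0 := by
  have hKK : ∀ x ∈ K, ∀ y ∈ K', y * x = 0 := by
    intro x hx y hy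
    have h1 : K * K' = ⊥ := by rw [← hKs, ← hK's, ← Ideal.map_mul, hJJ, Ideal.map_bot]
    have h2 : x * y ∈ K * K' := Ideal.mul_mem_mul hx hy
    rw [h1, Ideal.mem_bot] at h2
    rw [mul_comm, h2]
  have htors : Module.IsTorsionBySet A1 K (K' : Set A1) := by
    intro x a
    apply Subtype.ext
    exact hKK x.1 x.2 a.1 a.2
  letI : Module (A1 ⧸ K') K := htors.module
  have : IsScalarTower A1 (A1 ⧸ K') K := htors.isScalarTower
  letI : Module C K := Module.compHom K (algebraMap C (A1 ⧸ K'))
  have hsm : ∀ (γ : C) (x : K), γ • x = algebraMap C (A1 ⧸ K') γ • x := fun _ _ => rfl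
  have hmk : ∀ (a : A1) (x : K), (Ideal.Quotient.mk K' a) • x = a • x := fun _ _ => rfl
  have : IsScalarTower C (A1 ⧸ K') K := ⟨fun γ x m => by
    rw [hsm, Algebra.smul_def, mul_smul]⟩
  have hsK : ∀ m ∈ J, s m ∈ K := fun m hm => hKs ▸ Ideal.mem_map_of_mem s hm
  have htK : ∀ m ∈ J, t m ∈ K := fun m hm => hKt ▸ Ideal.mem_map_of_mem t hm
  let N : Submodule C K :=
    { carrier := {x | ∃ m ∈ J, (x : A1) = s m - t m}
      add_mem' := by
        rintro x y ⟨m, hm, hx⟩ ⟨n, hn, hy⟩
        refine ⟨m + n, J.add_mem hm hn, ?_⟩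
        rw [Submodule.coe_add, hx, hy, map_add, map_add]
        ring
      zero_mem' := ⟨0, J.zero_mem, by simp⟩
      smul_mem' := by
        rintro γ x ⟨m, hm, hx⟩
        obtain ⟨y, hy⟩ := hc2 (algebraMap C D γ)
        refine ⟨y * m, J.mul_mem_left _ hm, ?_⟩
        rw [hsm, hCs γ y hy, hmk, Submodule.coe_smul, smul_eq_mul, hx, map_mul, map_mul]
        have h1 : s y - t y ∈ K' := by
          rw [← Ideal.Quotient.eq, ← hCs γ y hy, ← hCt γ y hy]
        have h2 := hKK _ (htK m hm) _ h1
        linear_combination - h2 }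
  -- the set of finite sums `∑ s n * t y`
  have hH : ∀ x ∈ K, x ∈ AddSubgroup.closure {x | ∃ n ∈ J, ∃ y, x = s n * t y} := by
    have step : ∀ m ∈ J, ∀ α : A1, s m * α ∈
        AddSubgroup.closure {x | ∃ n ∈ J, ∃ y, x = s n * t y} := by
      intro m hm α
      have h1 := hgen (Ideal.Quotient.mk K' α)
      have h2 : ∀ z ∈ AddSubgroup.closure {x | ∃ y z, x = Ideal.Quotient.mk K' (s y * t z)},
          ∀ β : A1, Ideal.Quotient.mk K' β = z → s m * β ∈
          AddSubgroup.closure {x | ∃ n ∈ J, ∃ y, x = s n * t y} := by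
        intro z hz
        induction hz using AddSubgroup.closure_induction with
        | mem x hx =>
          obtain ⟨y, z, rfl⟩ := hx
          intro β hβ
          rw [Ideal.Quotient.eq] at hβ
          have h3 := hKK _ (hsK m hm) _ hβ
          have h4 : s m * β = s (m * y) * t z := by
            rw [map_mul]
            linear_combination h3
          rw [h4]
          exact AddSubgroup.subset_closure ⟨m * y, J.mul_mem_right _ hm, z, rfl⟩
        | zero =>
          intro β hβ
          rw [Ideal.Quotient.eq_zero_iff_mem] at hβ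
          have h3 := hKK _ (hsK m hm) _ hβ
          have h4 : s m * β = 0 := by rw [mul_comm, h3]
          rw [h4]
          exact AddSubgroup.zero_mem _
        | add x y _ _ hx hy =>
          intro β hβ
          obtain ⟨β1, hβ1⟩ := Ideal.Quotient.mk_surjective x
          have h3 := hx β1 hβ1
          have h4 := hy (β - β1) (by rw [map_sub, hβ, hβ1]; ring)
          have h5 : s m * β = s m * β1 + s m * (β - β1) := by ring
          rw [h5]
          exact AddSubgroup.add_mem _ h3 h4
        | neg x _ hx =>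
          intro β hβ
          have h3 := hx (-β) (by rw [map_neg, hβ, neg_neg])
          have h5 : s m * β = -(s m * (-β)) := by ring
          rw [h5]
          exact AddSubgroup.neg_mem _ h3
      exact h2 _ h1 α rfl
    intro x hx
    rw [← hKs, Ideal.map] at hx
    induction hx using Submodule.span_induction with
    | mem x hx =>
      obtain ⟨n, hn, rfl⟩ := hx
      have := step n hn 1
      rwa [mul_one] at this
    | zero => exact AddSubgroup.zero_mem _
    | add x y _ _ hx hy => exact AddSubgroup.add_mem _ hx hy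
    | smul r x hx' hx =>
      clear hx'
      rw [smul_eq_mul]
      induction hx using AddSubgroup.closure_induction with
      | mem x hx =>
        obtain ⟨n, hn, y, rfl⟩ := hx
        have := step n hn (t y * r)
        have h5 : r * (s n * t y) = s n * (t y * r) := by ring
        rwa [h5]
      | zero => rw [mul_zero]; exact AddSubgroup.zero_mem _
      | add x y _ _ hx hy => rw [mul_add]; exact AddSubgroup.add_mem _ hx hy
      | neg x _ hx => rw [mul_neg]; exact AddSubgroup.neg_mem _ hx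
  have hmem : (⟨s a0 - t a0, ha0⟩ : K) ∈ N := by
    refine core (D1 := A1 ⧸ K') (D := D) ψ hψ1 K.subtype (Subtype.val_injective) N _ ?_
    have h1 : algebraMap A1 A2 (s a0 - t a0) = p13 (s a0 - t a0) - p23 (s a0 - t a0) := by
      rw [map_sub, map_sub, map_sub, h13s, h13t, h23s, h23t]
      ring
    change algebraMap A1 A2 (s a0 - t a0) ∈ _
    rw [h1]
    have h2 := hH _ ha0
    generalize s a0 - t a0 = x at h2
    induction h2 using AddSubgroup.closure_induction with
    | mem x hx =>
      obtain ⟨n, hn, y, rfl⟩ := hx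
      refine AddSubgroup.subset_closure ⟨⟨s n - t n, K.sub_mem (hsK n hn) (htK n hn)⟩, ⟨n, hn, rfl⟩,
        q3 y, c2 y, hψ3 y, ?_⟩
      change _ = algebraMap A1 A2 (s n - t n) * q3 y
      rw [map_mul, map_mul, h13s, h13t, h23s, h23t, map_sub]
      ring
    | zero => rw [map_zero, map_zero, sub_zero]; exact AddSubgroup.zero_mem _
    | add x y _ _ hx hy =>
      have h5 : p13 (x + y) - p23 (x + y) = (p13 x - p23 x) + (p13 y - p23 y) := by
        rw [map_add, map_add]; ring
      rw [h5]
      exact AddSubgroup.add_mem _ hx hy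
    | neg x _ hx =>
      have h5 : p13 (-x) - p23 (-x) = -(p13 x - p23 x) := by
        rw [map_neg, map_neg]; ring
      rw [h5]
      exact AddSubgroup.neg_mem _ hx
  obtain ⟨m, hm, hx⟩ := hmem
  exact ⟨m, hm, hx.symm⟩

end K650.AlgH1
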