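import Mathlib

set_option autoImplicit false

namespace K650.EakNag

/-- If `M` is a finite `A`-module and `M / N` is a Noetherian `A`-module with the same annihilator as `M`, then
`M` is Noetherian. -/
theorem isNoetherian_of_annihilator {A M M' : Type*} [CommRing A] [AddCommGroup M] [Module A M]
    [AddCommGroup M'] [Module A M'] [Module.Finite A M] [IsNoetherian A M']
    (h : ∀ a : A, (∀ m : M', a • m = 0) → ∀ m : M, a • m = 0) : IsNoetherian A M := by
  classical
  let I := Module.annihilator A M'
  have hI : ∀ a : A, a ∈ I → ∀ m : M, a • m = 0 := fun a ha => h a (Module.mem_annihilator.1 ha)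
  -- `A / I` is a Noetherian `A`-module
  have h1 : IsNoetherian A (A ⧸ I) := by
    obtain ⟨s, hs⟩ := (IsNoetherian.noetherian (⊤ : Submodule A M') : (⊤ : Submodule A M').FG)
    let φ : A →ₗ[A] (s → M') :=
      { toFun := fun a i => a • (i : M')
        map_add' := fun a b => by ext i; simp [add_smul]
        map_smul' := fun a b => by ext i; simp [mul_smul] }
    have hφ : LinearMap.ker φ = (I : Submodule A A) := by
      ext a
      rw [LinearMap.mem_ker]
      constructor
      · intro ha
        change a ∈ Module.annihilator A M'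
        rw [Module.mem_annihilator]
        intro m
        have hm : m ∈ Submodule.span A (s : Set M') := by rw [hs]; trivial
        induction hm using Submodule.span_induction with
        | mem x hx => exact congrFun ha ⟨x, hx⟩
        | zero => simp
        | add x y _ _ hx hy => rw [smul_add, hx, hy, add_zero]
        | smul r x _ hx => rw [smul_comm, hx, smul_zero]
      · intro ha
        ext i
        exact Module.mem_annihilator.1 ha i
    have : IsNoetherian A (LinearMap.range φ) := inferInstance
    have e : (A ⧸ LinearMap.ker φ) ≃ₗ[A] LinearMap.range φ := φ.quotKerEquivRange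
    have h2 : IsNoetherian A (A ⧸ LinearMap.ker φ) := isNoetherian_of_linearEquiv e.symm
    rw [hφ] at h2
    exact h2
  -- `M` is a quotient of a finite power of `A / I`
  obtain ⟨n, f, hf⟩ := Module.Finite.exists_fin' A M
  let g : (Fin n → A ⧸ I) →ₗ[A] M :=
    { toFun := fun v => ∑ i, (Submodule.liftQ (I : Submodule A A)
        (LinearMap.toSpanSingleton A M (f (Pi.single i 1))) (by
          intro a ha
          rw [LinearMap.mem_ker, LinearMap.toSpanSingleton_apply]
          exact hI a ha _)) (v i)
      map_add' := fun v w => by simp [Finset.sum_add_distrib]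
      map_smul' := fun a v => by simp [Finset.smul_sum] }
  have hg : Function.Surjective g := by
    intro m
    obtain ⟨v, rfl⟩ := hf m
    refine ⟨fun i => Submodule.Quotient.mk (v i), ?_⟩
    have : v = ∑ i, v i • (Pi.single i (1 : A) : Fin n → A) := by
      ext j
      simp [Finset.sum_apply, Pi.single_apply]
    conv_rhs => rw [this, map_sum]
    have h2 : ∀ i, f (v i • (Pi.single i (1 : A) : Fin n → A)) = v i • f (Pi.single i 1) :=
      fun i => map_smul f (v i) _
    simp only [h2]
    rfl
  exact isNoetherian_of_surjective g (LinearMap.range_eq_top.2 hg)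

/-- **Eakin-Nagata.** -/
theorem isNoetherian_module {A B : Type*} [CommRing A] [CommRing B] [Algebra A B] [Module.Finite A B]
    [IsNoetherianRing B] : IsNoetherian A B := by
  classical
  by_contra hB
  -- a maximal extended ideal with non Noetherian quotient
  let 𝒮 : Set (Ideal B) := {𝔟 | (∃ I : Ideal A, 𝔟 = I.map (algebraMap A B)) ∧
    ¬ IsNoetherian A (B ⧸ 𝔟.restrictScalars A)}
  have hne : 𝒮.Nonempty := by
    refine ⟨⊥, ⟨⊥, by simp⟩, fun h => hB ?_⟩
    have e : (B ⧸ (⊥ : Ideal B).restrictScalars A) ≃ₗ[A] B :=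
      Submodule.quotEquivOfEqBot _ (by simp)
    exact isNoetherian_of_linearEquiv e
  obtain ⟨𝔟, ⟨⟨I, hI⟩, h𝔟⟩, hmax⟩ := (set_has_maximal_iff_noetherian (R := B) (M := B)).2 inferInstance 𝒮 hne
  let P0 : Submodule A B := 𝔟.restrictScalars A
  -- quotients by larger extended ideals are Noetherian
  have hquot : ∀ a : A, (∃ b : B, a • b ∉ P0) → ∀ P : Submodule A B, P0 ≤ P →
      (∀ b : B, a • b ∈ P) → IsNoetherian A (B ⧸ P) := by
    rintro a ⟨b, hb⟩ P hP haP
    let I' : Ideal A := I ⊔ Ideal.span {a}
    have h1 : 𝔟 < I'.map (algebraMap A B) := by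
      rw [lt_iff_le_and_ne]
      constructor
      · rw [hI]; exact Ideal.map_mono le_sup_left
      · intro heq
        apply hb
        change a • b ∈ 𝔟
        rw [heq, Algebra.smul_def]
        exact Ideal.mul_mem_right _ _ (Ideal.mem_map_of_mem _
          (le_sup_right (a := I) (Ideal.mem_span_singleton_self a)))
    have h2 : IsNoetherian A (B ⧸ (I'.map (algebraMap A B)).restrictScalars A) := by
      by_contra hcon
      exact hmax _ ⟨⟨I', rfl⟩, hcon⟩ h1
    have h3 : (I'.map (algebraMap A B)).restrictScalars A ≤ P := by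
      have h4 : I'.map (algebraMap A B) = 𝔟 ⊔ Ideal.span {algebraMap A B a} := by
        rw [Ideal.map_sup, ← hI, Ideal.map_span, Set.image_singleton]
      intro x hx
      have hx' : x ∈ I'.map (algebraMap A B) := hx
      rw [h4, Submodule.mem_sup] at hx'
      obtain ⟨y, hy, z, hz, rfl⟩ := hx'
      obtain ⟨w, rfl⟩ := Ideal.mem_span_singleton'.1 hz
      refine P.add_mem (hP hy) ?_
      have := haP w
      rwa [Algebra.smul_def, mul_comm] at this
    exact isNoetherian_of_surjective (Submodule.factor h3)
      (LinearMap.range_eq_top.2 (Submodule.factor_surjective h3))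
  -- Zorn
  obtain ⟨t, ht⟩ := (Module.Finite.fg_top : (⊤ : Submodule A B).FG)
  let 𝒯 : Set (Submodule A B) := {P | P0 ≤ P ∧ ∀ a : A, (∀ b : B, a • b ∈ P) → ∀ b : B, a • b ∈ P0}
  have htest : ∀ (P : Submodule A B) (a : A), (∀ b ∈ t, a • b ∈ P) → ∀ b : B, a • b ∈ P := by
    intro P a h b
    have hb : b ∈ Submodule.span A (t : Set B) := by rw [ht]; trivial
    induction hb using Submodule.span_induction with
    | mem x hx => exact h x hx
    | zero => simp
    | add x y _ _ hx hy => rw [smul_add]; exact P.add_mem hx hy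
    | smul r x _ hx => rw [smul_comm]; exact P.smul_mem _ hx
  obtain ⟨P, hP0, hPmax⟩ := zorn_le_nonempty₀ 𝒯 (by
    intro c hc hchain y hy
    refine ⟨sSup c, ⟨?_, ?_⟩, fun z hz => le_sSup hz⟩
    · exact (hc hy).1.trans (le_sSup hy)
    · intro a ha
      have hdir : DirectedOn (· ≤ ·) c := hchain.directedOn
      have hch : ∀ b : B, ∃ z ∈ c, a • b ∈ z := fun b =>
        (Submodule.mem_sSup_of_directed ⟨y, hy⟩ hdir).1 (ha b)
      have hfin : ∃ z ∈ c, ∀ b ∈ t, a • b ∈ z := by
        clear ht htest
        induction t using Finset.induction_on with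
        | empty => exact ⟨y, hy, by simp⟩
        | insert x s _ ih =>
          obtain ⟨z, hz, hz'⟩ := ih
          obtain ⟨w, hw, hw'⟩ := hch x
          obtain ⟨v, hv, hzv, hwv⟩ := hdir z hz w hw
          refine ⟨v, hv, fun b hb => ?_⟩
          rcases Finset.mem_insert.1 hb with rfl | hb
          · exact hwv hw'
          · exact hzv (hz' b hb)
      obtain ⟨z, hz, hz'⟩ := hfin
      exact (hc hz).2 a (htest z a hz')) P0 ⟨le_rfl, fun a h => h⟩
  have hPT : P ∈ 𝒯 := hPmax.prop
  -- `B / P` is Noetherian
  have hnoeth : IsNoetherian A (B ⧸ P) := by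
    rw [isNoetherian_def]
    intro N
    by_cases hN : N = ⊥
    · rw [hN]; exact Submodule.fg_bot
    let P' : Submodule A B := N.comap P.mkQ
    have hPP' : P < P' := by
      rw [lt_iff_le_and_ne]
      constructor
      · intro x hx
        change P.mkQ x ∈ N
        have h0 : P.mkQ x = 0 := (Submodule.Quotient.mk_eq_zero P).2 hx
        rw [h0]
        exact N.zero_mem
      · intro heq
        apply hN
        rw [eq_bot_iff]
        intro x hx
        obtain ⟨y, rfl⟩ := P.mkQ_surjective x
        have : y ∈ P' := hx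
        rw [← heq] at this
        exact (Submodule.Quotient.mk_eq_zero P).2 this
    have hP'T : P' ∉ 𝒯 := fun h => hPP'.not_ge (hPmax.le_of_ge h hPP'.le)
    have : ∃ a : A, (∀ b : B, a • b ∈ P') ∧ ∃ b : B, a • b ∉ P0 := by
      by_contra hcon
      push Not at hcon
      exact hP'T ⟨hP0.trans hPP'.le, fun a ha => hcon a ha⟩
    obtain ⟨a, ha, hb⟩ := this
    -- `a B + P`
    let R : Submodule A B := P ⊔ LinearMap.range (LinearMap.lsmul A B a)
    have hRN : IsNoetherian A (B ⧸ R) := hquot a hb R (hP0.trans le_sup_left)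
      (fun b => le_sup_right (a := P) (by exact ⟨b, rfl⟩))
    have hRle : R ≤ P' := by
      refine sup_le hPP'.le ?_
      rintro _ ⟨b, rfl⟩
      exact ha b
    -- N is an extension
    let π : (B ⧸ P) →ₗ[A] (B ⧸ R) := Submodule.factor le_sup_left
    refine Submodule.fg_of_fg_map_of_fg_inf_ker π (IsNoetherian.noetherian _) ?_
    have hker : N ⊓ LinearMap.ker π = LinearMap.range (P.mkQ ∘ₗ LinearMap.lsmul A B a) := by
      apply le_antisymm
      · rintro x ⟨-, hx⟩
        obtain ⟨y, rfl⟩ := P.mkQ_surjective x
        have hy : y ∈ R := (Submodule.Quotient.mk_eq_zero R).1 hx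
        obtain ⟨p, hp, _, ⟨b, rfl⟩, rfl⟩ := Submodule.mem_sup.1 hy
        refine ⟨b, ?_⟩
        have : P.mkQ p = 0 := (Submodule.Quotient.mk_eq_zero P).2 hp
        rw [map_add, this, zero_add]
        rfl
      · rintro _ ⟨b, rfl⟩
        refine ⟨ha b, ?_⟩
        change Submodule.Quotient.mk (a • b) = (0 : B ⧸ R)
        rw [Submodule.Quotient.mk_eq_zero]
        exact le_sup_right (a := P) (by exact ⟨b, rfl⟩)
    rw [hker]
    exact Module.Finite.iff_fg.1 inferInstance
  refine h𝔟 (isNoetherian_of_annihilator (M' := B ⧸ P) ?_)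
  intro a ha m
  obtain ⟨b, rfl⟩ := Submodule.mkQ_surjective (𝔟.restrictScalars A) m
  rw [← map_smul]
  refine (Submodule.Quotient.mk_eq_zero _).2 ?_
  refine hPT.2 a (fun b' => ?_) b
  have := ha (P.mkQ b')
  rw [← map_smul] at this
  exact (Submodule.Quotient.mk_eq_zero P).1 this

theorem isNoetherianRing {A B : Type*} [CommRing A] [CommRing B] [Algebra A B] [Module.Finite A B]
    [IsNoetherianRing B] (h : Function.Injective (algebraMap A B)) : IsNoetherianRing A := by
  have := isNoetherian_module (A := A) (B := B)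
  exact isNoetherian_of_injective (Algebra.linearMap A B) h

end K650.EakNag
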