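import Mathlib
import Groth.Prelude
import Groth.Agent.S10375
import Groth.Agent.AlgSp.K604.FinCover
import Groth.Agent.AlgSp.K634.FiniteMor
import Groth.Agent.AlgSp.K609.Points

/-!
# Finite covers by schemes (modulo the approximation of integral morphisms)
-/

set_option autoImplicit false
set_option backward.isDefEq.respectTransparency.types false
universe u
open CategoryTheory CategoryTheory.Limits AlgebraicGeometry Opposite AlgSp

namespace K650.FinCov

open K604.Approx

/-- finite covers by schemes. -/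
theorem exists_cover {S : Scheme.{u}} [QuasiSeparatedSpace S] (H33 : IntApprox S) {X : Sp S}
    (hX : IsAlgSpace X) (hqc : IsQuasiCompactSp X) (hqs : IsQuasiSeparatedSp X) :
    ∃ (Y : Over S) (g : (yon S).obj Y ⟶ X), RepWith @IsFinite g ∧ RepWith @Surjective g := by
  obtain ⟨U, p, hp, hps⟩ := hX.atlas
  obtain ⟨Y0, g0, hg0, hgs0, hloc⟩ := Groth.Agent.S10375.result ⟨X, hX⟩ hqc hqs p hp hps
  obtain ⟨Y, g, h1, h2, -, -⟩ := K604.FinCover.exists_finite_fp H33 (X := ⟨X, hX⟩) hqc hqs hp g0 hg0 hgs0
    (fun y => by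
      obtain ⟨W, c, hy, hc⟩ := hloc y
      exact ⟨W, hy, c, hc⟩)
  have h3 := K634.FiniteMor.isFiniteMor_iff.1 h1
  exact ⟨Y, g, h3, (K609.Points.repWith_surjective_iff h3.1).2 h2⟩

end K650.FinCov
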