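import Mathlib
import Groth.Prelude
import Groth.Agent.S0593
import Groth.Agent.AlgSp.K613.LqfSch
import Groth.Agent.AlgSp.K596.SepSurj
import Groth.Agent.AlgSp.K597.EtLoc
import Groth.Agent.AlgSp.K597.LocP
import Groth.Agent.AlgSp.K595.DiagBasic
import Groth.Agent.AlgSp.K606.RepWithBasic

set_option autoImplicit false
set_option backward.isDefEq.respectTransparency.types false
universe u v
open CategoryTheory CategoryTheory.Limits AlgebraicGeometry Opposite AlgSp

namespace K650.Final

variable {S : Scheme.{u}}

/-- If `X` has a finite surjective cover by an affine scheme and enough functions (a map from a chart to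
an affine scheme, constant on the equivalence relation, of finite type and with finite fibres), then `X` is an
affine scheme. -/
theorem affine_of_functions {X : Sp S} (hX : IsAlgSpace X) {U : Over S} {p : (yon S).obj U ⟶ X}
    (hp : K613.Chart.Ch p) [IsAffine U.left] {X' : Over S} [IsAffine X'.left]
    {π : (yon S).obj X' ⟶ X} (hfin : RepWith @IsFinite π) (hsurj : RepWith @Surjective π)
    (A : CommRingCat.{u}) (φ : U.left ⟶ Spec A)
    (hφ : ∀ (R : Over S) (a b : R ⟶ U), (yon S).map a ≫ p = (yon S).map b ≫ p →
      a.left ≫ φ = b.left ≫ φ) [LocallyOfFiniteType φ] (hqf : ∀ y, (φ ⁻¹' {y}).Finite) :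
    ∃ T : Over S, IsAffine T.left ∧ Nonempty ((yon S).obj T ≅ X) := by
  let T0 : Over S := Over.mk (prod.snd : Spec A ⨯ S ⟶ S)
  let φ' : U ⟶ T0 := Over.homMk (prod.lift φ U.hom) (prod.lift_snd _ _)
  have hφ'1 : φ'.left ≫ prod.fst = φ := prod.lift_fst _ _
  obtain ⟨f, hf, -⟩ := hp.fSurj.desc ((yon S).map φ') (fun R u v huv => by
    obtain ⟨u, rfl⟩ := (yon S).map_surjective u
    obtain ⟨v, rfl⟩ := (yon S).map_surjective v
    rw [← Functor.map_comp, ← Functor.map_comp]
    congr 1
    ext1
    apply Limits.prod.hom_ext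
    · simp only [Over.comp_left, Category.assoc, hφ'1]
      exact hφ R u v huv
    · have h1 : φ'.left ≫ prod.snd = U.hom := prod.lift_snd _ _
      simp only [Over.comp_left, Category.assoc, h1, Over.w])
  have hlft : LocallyOfFiniteType φ'.left := by
    have : LocallyOfFiniteType (φ'.left ≫ prod.fst) := by rw [hφ'1]; infer_instance
    exact locallyOfFiniteType_of_comp φ'.left prod.fst
  have hlqf0 : LocallyQuasiFinite φ := (locallyQuasiFinite_iff_finite_preimage_singleton).2 hqf
  have hlqf : LocallyQuasiFinite φ'.left := by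
    have : LocallyQuasiFinite (φ'.left ≫ prod.fst) := by rw [hφ'1]; infer_instance
    exact LocallyQuasiFinite.of_comp φ'.left prod.fst
  have hloc : LocP (@LocallyQuasiFinite ⊓ @LocallyOfFiniteType) f :=
    K597.locP_of_chart K597.etLoc_lqf f p (𝟙 _) φ' hp.1 hp.2 (repWith_id _ _)
      (by rw [Category.comp_id]; exact hf) ⟨hlqf, hlft⟩
  -- `f` is separated
  have hπf : IsSeparatedMor (π ≫ f) := by
    obtain ⟨g, hg⟩ := (yon S).map_surjective (π ≫ f)
    rw [← hg, isSeparatedMor_yon_map_iff]
    have h1 : IsSeparated (g.left ≫ terminal.from _) := by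
      have : g.left ≫ terminal.from T0.left = terminal.from X'.left := Subsingleton.elim _ _
      rw [this]
      exact (inferInstance : X'.left.IsSeparated).1
    exact IsSeparated.of_comp g.left (terminal.from T0.left)
  have hsep : IsSeparatedMor f := by
    refine (K596.SepSurj.separation_of_surjective_univClosed
      (X := ⟨(yon S).obj X', IsAlgSpace.yon_obj X'⟩) (Y := ⟨X, hX⟩)
      (B := ⟨(yon S).obj T0, IsAlgSpace.yon_obj T0⟩)
      (ObjectProperty.homMk π) (ObjectProperty.homMk (π ≫ f)) (ObjectProperty.homMk f) rfl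
      ?_ ?_).2 hπf
    · exact K609.Points.surjective_map_of_repWith_surjective hsurj
    · refine (K596.Univ.repWith_universallyClosed_iff hfin.1).1 ?_
      exact K596.Univ.repWith_mono (Q := @IsFinite) (Q' := @UniversallyClosed) (fun _ _ f hf => by
        have : IsFinite f := hf
        infer_instance) hfin
  obtain ⟨T, ⟨e⟩⟩ := K613.exists_iso_of_lqf hX f hloc hsep
  refine ⟨T, ?_, ⟨e⟩⟩
  -- Chevalley for schemes
  obtain ⟨g, hg⟩ := (yon S).map_surjective (π ≫ e.inv)
  have h1 : RepWith @IsFinite ((yon S).map g) := by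
    rw [hg]
    exact K606.RepWithBasic.postcomp_iso e.symm hfin
  have h2 : RepWith @Surjective ((yon S).map g) := by
    rw [hg]
    exact K606.RepWithBasic.postcomp_iso e.symm hsurj
  have : IsFinite g.left := (repWith_yon_map_iff _ _).1 h1
  have : Surjective g.left := (repWith_yon_map_iff _ _).1 h2
  exact Groth.Agent.S0593.result X'.left T.left g.left

end K650.Final
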