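import Mathlib
import Groth.Prelude
import Groth.Agent.AlgSp.K650.DedAlg
import Groth.Agent.AlgSp.K650.Two
import Groth.Agent.AlgSp.K595.DescInst

/-!
# Flat closures over Dedekind schemes
-/

set_option autoImplicit false
set_option backward.isDefEq.respectTransparency.types false
universe u v
open CategoryTheory CategoryTheory.Limits AlgebraicGeometry Opposite AlgSp

namespace K650.FlatClos

theorem flat_of_comp_mono {P Q T : Scheme.{u}} (f : P ⟶ Q) (w : Q ⟶ T) [Mono w] (h : Flat (f ≫ w)) :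
    Flat f := by
  have sq : IsPullback (𝟙 P) f (f ≫ w) w := by
    refine ⟨⟨by rw [Category.id_comp]⟩, ⟨PullbackCone.IsLimit.mk _ (fun s => s.fst) (fun s => Category.comp_id _)
      (fun s => ?_) (fun s m h1 _ => ?_)⟩⟩
    · rw [← cancel_mono w, Category.assoc]
      exact s.condition
    · rw [← h1, Category.comp_id]
  exact MorphismProperty.of_isPullback (P := @Flat) sq h

/-- A morphism to `Spec B` which is flat over the Dedekind ring `R` kills the `R`-torsion. -/
theorem exists_factor_tors {P : Scheme.{u}} {R B : CommRingCat.{u}} [IsDedekindDomain R] (φ : R ⟶ B)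
    (b : P ⟶ Spec B) (hb : Flat (b ≫ Spec.map φ)) :
    ∃ c : P ⟶ Spec (CommRingCat.of (B ⧸ DedAlg.tors φ.hom)),
      c ≫ Spec.map (CommRingCat.ofHom (Ideal.Quotient.mk (DedAlg.tors φ.hom))) = b := by
  -- vanishing
  have hz : ∀ x ∈ DedAlg.tors φ.hom, b.appTop.hom ((Scheme.ΓSpecIso B).inv.hom x) = 0 := by
    rintro x ⟨r, hr, hx⟩
    refine Scheme.zero_of_zero_cover _ P.affineCover fun i => ?_
    have h1 : Flat (P.affineCover.f i ≫ b ≫ Spec.map φ) := inferInstance
    have h2 : ((P.affineCover.f i ≫ b ≫ Spec.map φ).appTop.hom.comp (Scheme.ΓSpecIso R).inv.hom).Flat := by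
      refine RingHom.Flat.comp ?_ (HasRingHomProperty.appTop (P := @Flat) _ h1)
      exact RingHom.Flat.of_bijective (ConcreteCategory.bijective_of_isIso (Scheme.ΓSpecIso R).inv)
    let _ := ((P.affineCover.f i ≫ b ≫ Spec.map φ).appTop.hom.comp (Scheme.ΓSpecIso R).inv.hom).toAlgebra
    have h3 : Module.Flat R Γ(P.affineCover.X i, ⊤) := h2
    have h4 : IsSMulRegular Γ(P.affineCover.X i, ⊤) r :=
      Module.Flat.isSMulRegular_of_nonZeroDivisors (mem_nonZeroDivisors_of_ne_zero hr)
    refine h4 ?_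
    change r • _ = r • (0 : Γ(P.affineCover.X i, ⊤))
    rw [smul_zero]
    change (P.affineCover.f i ≫ b ≫ Spec.map φ).appTop.hom ((Scheme.ΓSpecIso R).inv.hom r) *
      (P.affineCover.f i).appTop.hom (b.appTop.hom ((Scheme.ΓSpecIso B).inv.hom x)) = 0
    have h5 : (P.affineCover.f i ≫ b ≫ Spec.map φ).appTop.hom ((Scheme.ΓSpecIso R).inv.hom r) =
        (P.affineCover.f i).appTop.hom (b.appTop.hom ((Scheme.ΓSpecIso B).inv.hom (φ.hom r))) := by
      rw [Scheme.Hom.comp_appTop, Scheme.Hom.comp_appTop]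
      change (P.affineCover.f i).appTop.hom (b.appTop.hom ((Spec.map φ).appTop.hom _)) = _
      congr 2
      have := congrArg (fun ψ : R ⟶ Γ(Spec B, ⊤) => ψ.hom r) (Scheme.ΓSpecIso_inv_naturality φ)
      exact this.symm
    rw [h5, ← map_mul, ← map_mul, ← map_mul, hx, map_zero, map_zero, map_zero]
  let β : B ⟶ Γ(P, ⊤) := (Scheme.ΓSpecIso B).inv ≫ b.appTop
  let γ : CommRingCat.of (B ⧸ DedAlg.tors φ.hom) ⟶ Γ(P, ⊤) :=
    CommRingCat.ofHom (Ideal.Quotient.lift _ β.hom hz)
  refine ⟨P.toSpecΓ ≫ Spec.map γ, ?_⟩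
  have h6 : CommRingCat.ofHom (Ideal.Quotient.mk (DedAlg.tors φ.hom)) ≫ γ = β := by
    ext x
    rfl
  rw [Category.assoc, ← Spec.map_comp]
  have h7 : Spec.map (CommRingCat.ofHom (Ideal.Quotient.mk (DedAlg.tors φ.hom)) ≫ γ) =
      Spec.map b.appTop ≫ Spec.map (Scheme.ΓSpecIso B).inv := by
    rw [h6, Spec.map_comp]
  rw [h7, ← Category.assoc, ← Scheme.toSpecΓ_naturality, Category.assoc,
    toSpecΓ_SpecMap_ΓSpecIso_inv, Category.comp_id]

variable {S : Scheme.{u}}

/-- The flat closure of the generic fibre is a closed subspace. -/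
theorem isClosedImmersion_of_flat {R B : CommRingCat.{u}} [IsDedekindDomain R] {w : Spec R ⟶ S}
    [IsOpenImmersion w] {G : Sp S} (hG : IsAlgSpace G) (φ : R ⟶ B)
    {q : (yon S).obj (Over.mk (Spec.map φ ≫ w)) ⟶ G} (hq : RepWith @Etale q)
    (hqs : RepWith @Surjective q) {O : Over S} (hO : Flat O.hom) {j : (yon S).obj O ⟶ G} [Mono j]
    (h : ∀ T : Over S, Flat T.hom → ∀ a : (yon S).obj T ⟶ G, ∃ b : T ⟶ O, (yon S).map b ≫ j = a) :
    RepWith @IsClosedImmersion j := by
  have hrep : Representable j := Functor.relativelyRepresentable.of_diag hG.diag j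
  obtain ⟨P, b, a', sq⟩ := hrep q
  obtain ⟨a, rfl⟩ := (yon S).map_surjective a'
  have hae : Etale a.left := hq.2 j ((yon S).map b) a sq.flip
  have hP : Flat P.hom := by
    rw [← Over.w a]
    infer_instance
  have hb : Flat (b.left ≫ Spec.map φ) := by
    refine flat_of_comp_mono _ w ?_
    have : (b.left ≫ Spec.map φ) ≫ w = P.hom := by
      rw [Category.assoc]; exact Over.w b
    rw [this]; exact hP
  obtain ⟨c, hc⟩ := exists_factor_tors φ b.left hb
  let m : B ⟶ CommRingCat.of (B ⧸ DedAlg.tors φ.hom) :=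
    CommRingCat.ofHom (Ideal.Quotient.mk (DedAlg.tors φ.hom))
  have hm : IsClosedImmersion (Spec.map m) :=
    IsClosedImmersion.spec_of_surjective _ Ideal.Quotient.mk_surjective
  let Vb : Over S := Over.mk (Spec.map m ≫ Spec.map φ ≫ w)
  let k : Vb ⟶ Over.mk (Spec.map φ ≫ w) := Over.homMk (Spec.map m) rfl
  have hVb : Flat Vb.hom := by
    have h1 : Flat (Spec.map (φ ≫ m)) := by
      rw [Flat.SpecMap_iff]
      exact DedAlg.flat_quot φ.hom
    have h2 : Vb.hom = Spec.map (φ ≫ m) ≫ w := by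
      rw [Spec.map_comp, Category.assoc]; rfl
    rw [h2]
    infer_instance
  obtain ⟨b', hb'⟩ := h Vb hVb ((yon S).map k ≫ q)
  obtain ⟨l, hl⟩ := (yon S).map_surjective (sq.lift ((yon S).map b') ((yon S).map k) hb')
  have hlb : l ≫ b = k := (yon S).map_injective (by rw [Functor.map_comp, hl, sq.lift_snd])
  let C : P ⟶ Vb := Over.homMk c (by
    change c ≫ Spec.map m ≫ Spec.map φ ≫ w = _
    rw [← Category.assoc, hc]
    exact Over.w b)
  have hCk : C ≫ k = b := Over.OverMorphism.ext hc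
  have hmb : Mono ((yon S).map b) := by
    have := sq.mono_snd_of_mono
    exact this
  have hmk : Mono k := by
    have : Mono ((Over.forget S).map k) := (inferInstance : Mono (Spec.map m))
    exact (Over.forget S).mono_of_mono_map this
  have hmb' : Mono b := (yon S).mono_of_mono_map hmb
  have h1 : C ≫ l = 𝟙 _ := by
    rw [← cancel_mono b, Category.assoc, hlb, hCk, Category.id_comp]
  have h2 : l ≫ C = 𝟙 _ := by
    rw [← cancel_mono k, Category.assoc, hCk, hlb, Category.id_comp]
  have hCi : IsIso C := ⟨l, h1, h2⟩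
  have hci : IsIso c := (inferInstance : IsIso ((Over.forget S).map C))
  have hbc : IsClosedImmersion b.left := by
    rw [← hc]
    infer_instance
  have := K595.DescInst.isClosedImmersion.{u}
  exact (K613.Cover.ESurj.of_repWith hq hqs).fSurj.repWith sq hrep ((repWith_yon_map_iff _ _).2 hbc)

end K650.FlatClos
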