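import Mathlib
import Groth.Prelude
import Groth.Agent.S0593
import Groth.Agent.AlgSp.K596.QC
import Groth.Agent.AlgSp.K609.Sep
import Groth.Agent.AlgSp.K613.Chart
import Groth.Agent.AlgSp.K606.RepWithBasic

set_option autoImplicit false
set_option backward.isDefEq.respectTransparency.types false
universe u v
open CategoryTheory CategoryTheory.Limits AlgebraicGeometry Opposite AlgSp

namespace K650.Geo

variable {S : Scheme.{u}} {X : Sp S}

/-- The relation on `V = U ×_X Z` induced by the relation `R = U ×_X U`. -/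
theorem geo {U R : Over S} {p : (yon S).obj U ⟶ X} {s t : R ⟶ U}
    (sq : IsPullback ((yon S).map s) ((yon S).map t) p p) {Z V RZ : Over S}
    {f : (yon S).obj Z ⟶ X} {e : V ⟶ Z} {c : V ⟶ U}
    (sqV : IsPullback ((yon S).map e) ((yon S).map c) f p) {a b : RZ ⟶ V}
    (sqZ : IsPullback a b e e) :
    ∃ k : RZ ⟶ R, k ≫ s = a ≫ c ∧ k ≫ t = b ≫ c ∧ IsPullback k a s c ∧ IsPullback k b t c := by
  have big1 : IsPullback ((yon S).map (b ≫ c)) ((yon S).map a) p ((yon S).map c ≫ p) := by
    rw [← sqV.w, Functor.map_comp]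
    exact (sqZ.flip.map (yon S)).paste_horiz sqV.flip
  have big2 : IsPullback ((yon S).map (a ≫ c)) ((yon S).map b) p ((yon S).map c ≫ p) := by
    rw [← sqV.w, Functor.map_comp]
    exact (sqZ.map (yon S)).paste_horiz sqV.flip
  obtain ⟨k1, hk1, hk1'⟩ := K596.QC.isPullback_lift_right sq.flip big1
  obtain ⟨k2, hk2, hk2'⟩ := K596.QC.isPullback_lift_right sq big2
  obtain ⟨k1, rfl⟩ := (yon S).map_surjective k1
  obtain ⟨k2, rfl⟩ := (yon S).map_surjective k2
  have sq1 : IsPullback k1 a s c := IsPullback.of_map_of_faithful (yon S) hk1'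
  have sq2 : IsPullback k2 b t c := IsPullback.of_map_of_faithful (yon S) hk2'
  have e1 : k1 ≫ t = b ≫ c := (yon S).map_injective (by rw [Functor.map_comp, hk1])
  have e2 : k2 ≫ s = a ≫ c := (yon S).map_injective (by rw [Functor.map_comp, hk2])
  have : k1 = k2 := by
    apply (yon S).map_injective
    apply sq.hom_ext
    · rw [← Functor.map_comp, ← Functor.map_comp, sq1.w, e2]
    · rw [← Functor.map_comp, ← Functor.map_comp, sq2.w, e1]
  subst this
  exact ⟨k1, sq1.w, e1, sq1, sq2⟩

/-- `R = U ×_X U` is affine if `X` has a finite surjective cover by an affine scheme. -/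
theorem isAffine_rel {U R : Over S} {p : (yon S).obj U ⟶ X} {s t : R ⟶ U}
    (sq : IsPullback ((yon S).map s) ((yon S).map t) p p) [IsAffine U.left]
    {X' : Over S} [IsAffine X'.left] {π : (yon S).obj X' ⟶ X} (hfin : RepWith @IsFinite π)
    (hsurj : RepWith @Surjective π) : IsAffine R.left := by
  obtain ⟨V, c, e, sqV⟩ := hfin.1 p
  have hc : IsFinite c.left := hfin.2 p e c sqV
  have hcs : Surjective c.left := hsurj.2 p e c sqV
  obtain ⟨e, rfl⟩ := (yon S).map_surjective e
  have : IsAffine V.left := isAffine_of_isAffineHom c.left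
  obtain ⟨k, -, -, sq1, -⟩ := geo sq sqV (IsPullback.of_hasPullback e e)
  have sq1' := sq1.map (Over.forget S)
  have hk : IsFinite k.left := MorphismProperty.of_isPullback (P := @IsFinite) sq1'.flip hc
  have hks : Surjective k.left := MorphismProperty.of_isPullback (P := @Surjective) sq1'.flip hcs
  have : IsAffine (pullback e e).left := by
    have sq2 := (IsPullback.of_hasPullback e e).map (Over.forget S)
    exact IsAffine.of_isPullback (f := e.left) (g := e.left) sq2
  exact Groth.Agent.S0593.result (pullback e e).left R.left k.left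

end K650.Geo
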