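import Mathlib

set_option autoImplicit false
universe u
open CategoryTheory CategoryTheory.Limits
open scoped TensorProduct

namespace K650.RingPO

variable {A B C D : CommRingCat.{u}} {f : A ⟶ B} {g : A ⟶ C} {f' : B ⟶ D} {g' : C ⟶ D}

theorem closure_of_isPushout (sq : IsPushout f g f' g') (z : D) :
    z ∈ AddSubgroup.closure {z : D | ∃ x y, z = f' x * g' y} := by
  algebraize [f.hom, g.hom]
  have sq2 := CommRingCat.isPushout_tensorProduct A B C
  let e := sq.isoIsPushout _ _ sq2
  have e1 : ∀ x : B, e.inv.hom (x ⊗ₜ[A] (1 : C)) = f' x := by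
    intro x
    have h := sq.inl_isoIsPushout_inv _ _ sq2
    exact congrArg (fun φ => φ.hom x) h
  have e2 : ∀ y : C, e.inv.hom ((1 : B) ⊗ₜ[A] y) = g' y := by
    intro y
    have h := sq.inr_isoIsPushout_inv _ _ sq2
    exact congrArg (fun φ => φ.hom y) h
  have hz : z = e.inv.hom (e.hom.hom z) := by
    rw [← CommRingCat.comp_apply, Iso.hom_inv_id]
    rfl
  rw [hz]
  generalize e.hom.hom z = w
  change (B ⊗[A] C) at w
  induction w using TensorProduct.induction_on with
  | zero => rw [map_zero]; exact AddSubgroup.zero_mem _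
  | tmul x y =>
    refine AddSubgroup.subset_closure ⟨x, y, ?_⟩
    rw [← e1, ← e2, ← map_mul, Algebra.TensorProduct.tmul_mul_tmul, mul_one, one_mul]
  | add x y hx hy => rw [map_add]; exact AddSubgroup.add_mem _ hx hy

theorem surjective_of_isPushout (sq : IsPushout f g f' g') (hg : Function.Surjective g.hom) :
    Function.Surjective f'.hom := by
  intro z
  have h := closure_of_isPushout sq z
  change z ∈ f'.hom.range
  induction h using AddSubgroup.closure_induction with
  | mem x hx =>
    obtain ⟨x, y, rfl⟩ := hx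
    obtain ⟨a, rfl⟩ := hg y
    refine ⟨x * f.hom a, ?_⟩
    rw [map_mul]
    congr 1
    exact congrArg (fun φ => φ.hom a) sq.w
  | zero => exact Subring.zero_mem _
  | add x y _ _ hx hy => exact Subring.add_mem _ hx hy
  | neg x _ hx => exact Subring.neg_mem _ hx

theorem ker_of_isPushout (sq : IsPushout f g f' g') (hg : Function.Surjective g.hom) :
    RingHom.ker f'.hom = Ideal.map f.hom (RingHom.ker g.hom) := by
  apply le_antisymm
  · intro x hx
    let I := Ideal.map f.hom (RingHom.ker g.hom)
    let φ : C →+* B ⧸ I := (RingHom.liftOfSurjective g.hom hg)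
      ⟨(Ideal.Quotient.mk I).comp f.hom, by
        intro a ha
        change Ideal.Quotient.mk I (f.hom a) = 0
        rw [Ideal.Quotient.eq_zero_iff_mem]
        exact Ideal.mem_map_of_mem _ ha⟩
    have hφ : φ.comp g.hom = (Ideal.Quotient.mk I).comp f.hom :=
      RingHom.liftOfSurjective_comp _ _ _
    let d : D ⟶ CommRingCat.of (B ⧸ I) := sq.desc (CommRingCat.ofHom (Ideal.Quotient.mk I))
      (CommRingCat.ofHom φ) (by
        ext a
        exact (congrArg (fun ψ => ψ a) hφ).symm)
    have hd : f' ≫ d = CommRingCat.ofHom (Ideal.Quotient.mk I) := sq.inl_desc _ _ _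
    have h1 : Ideal.Quotient.mk I x = d.hom (f'.hom x) :=
      (congrArg (fun ψ => ψ.hom x) hd).symm
    have hx' : f'.hom x = 0 := hx
    rw [hx', map_zero, Ideal.Quotient.eq_zero_iff_mem] at h1
    exact h1
  · rw [Ideal.map_le_iff_le_comap]
    intro a ha
    change f'.hom (f.hom a) = 0
    have h1 : f'.hom (f.hom a) = g'.hom (g.hom a) := congrArg (fun φ => φ.hom a) sq.w
    have ha' : g.hom a = 0 := ha
    rw [h1, ha', map_zero]

end K650.RingPO
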