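import Mathlib
import Groth.Prelude
import Groth.Agent.AlgSp.K650.Geo
import Groth.Agent.AlgSp.K650.RingPO
import Groth.Agent.AlgSp.K650.AlgH1

set_option autoImplicit false
set_option backward.isDefEq.respectTransparency.types false
universe u v
open CategoryTheory CategoryTheory.Limits AlgebraicGeometry Opposite AlgSp
open scoped TensorProduct

namespace K650.GSurj

variable {S : Scheme.{u}} {X : Sp S}

/-- composition of global sections -/
theorem appTop_comp_apply {X Y Z : Scheme.{u}} (f : X ⟶ Y) (g : Y ⟶ Z) (a : Γ(Z, ⊤)) :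
    (f ≫ g).appTop.hom a = f.appTop.hom (g.appTop.hom a) := by
  rw [Scheme.Hom.comp_appTop]
  rfl

theorem app_eq {A B C D : Over S} {f : A ⟶ B} {g : B ⟶ D} {f' : A ⟶ C} {g' : C ⟶ D}
    (h : f ≫ g = f' ≫ g') (a : Γ(D.left, ⊤)) :
    f.left.appTop.hom (g.left.appTop.hom a) = f'.left.appTop.hom (g'.left.appTop.hom a) := by
  rw [← appTop_comp_apply, ← appTop_comp_apply, ← Over.comp_left, ← Over.comp_left, h]

theorem isPushout_of {A B C D : Over S} {fst : A ⟶ B} {snd : A ⟶ C} {f : B ⟶ D} {g : C ⟶ D}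
    [IsAffine B.left] [IsAffine C.left] [IsAffine D.left] (h : IsPullback fst snd f g) :
    IsPushout f.left.appTop g.left.appTop fst.left.appTop snd.left.appTop :=
  isPushout_appTop_of_isPullback (h.map (Over.forget S))

theorem isAffine_of {A B C D : Over S} {fst : A ⟶ B} {snd : A ⟶ C} {f : B ⟶ D} {g : C ⟶ D}
    [IsAffine B.left] [IsAffine C.left] [IsAffine D.left] (h : IsPullback fst snd f g) :
    IsAffine A.left := by
  have h' := h.map (Over.forget S)
  exact IsAffine.of_isPullback (f := f.left) (g := g.left) h'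

/-- Lifting of functions from `V(J)` to `X` when `J J' = 0` and `V(J')` is affine. -/
theorem gsurj {U R : Over S} {p : (yon S).obj U ⟶ X} (hp : K613.Chart.Ch p) {s t : R ⟶ U}
    (sq : IsPullback ((yon S).map s) ((yon S).map t) p p) [IsAffine U.left] [IsAffine R.left]
    {X1 X2 V1 V2 : Over S} [IsAffine X1.left] [IsAffine X2.left] {i1 : (yon S).obj X1 ⟶ X}
    {i2 : (yon S).obj X2 ⟶ X} {e1 : V1 ⟶ X1} {c1 : V1 ⟶ U} {e2 : V2 ⟶ X2} {c2 : V2 ⟶ U}
    (sq1 : IsPullback ((yon S).map e1) ((yon S).map c1) i1 p)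
    (sq2 : IsPullback ((yon S).map e2) ((yon S).map c2) i2 p)
    (hc1 : IsClosedImmersion c1.left) (hc2 : IsClosedImmersion c2.left)
    (hJJ : RingHom.ker c1.left.appTop.hom * RingHom.ker c2.left.appTop.hom = ⊥)
    (g : Γ(X1.left, ⊤)) :
    ∃ a : Γ(U.left, ⊤), s.left.appTop.hom a = t.left.appTop.hom a ∧
      c1.left.appTop.hom a = e1.left.appTop.hom g := by
  have hV1 : IsAffine V1.left := isAffine_of_isAffineHom c1.left
  have hV2 : IsAffine V2.left := isAffine_of_isAffineHom c2.left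
  have hc1s : Function.Surjective c1.left.appTop.hom :=
    c1.left.app_surjective ⊤ (isAffineOpen_top _)
  have hc2s : Function.Surjective c2.left.appTop.hom :=
    c2.left.app_surjective ⊤ (isAffineOpen_top _)
  -- the relations on `V1`, `V2`
  have sqZ1 := IsPullback.of_hasPullback e1 e1
  have sqZ2 := IsPullback.of_hasPullback e2 e2
  have hZ1 : IsAffine (pullback e1 e1).left := isAffine_of sqZ1
  have hZ2 : IsAffine (pullback e2 e2).left := isAffine_of sqZ2
  obtain ⟨k1, hk1s, hk1t, sk1s, sk1t⟩ := Geo.geo sq sq1 sqZ1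
  obtain ⟨k2, hk2s, hk2t, sk2s, sk2t⟩ := Geo.geo sq sq2 sqZ2
  have hker1s := RingPO.ker_of_isPushout (isPushout_of sk1s) hc1s
  have hker1t := RingPO.ker_of_isPushout (isPushout_of sk1t) hc1s
  have hker2s := RingPO.ker_of_isPushout (isPushout_of sk2s) hc2s
  have hk2surj := RingPO.surjective_of_isPushout (isPushout_of sk2s) hc2s
  -- the triple product
  have sqW := IsPullback.of_hasPullback t s
  have hW : IsAffine (pullback t s).left := isAffine_of sqW
  let p12 := pullback.fst t s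
  let p23 := pullback.snd t s
  obtain ⟨p13, hp13⟩ := (yon S).map_surjective (sq.lift ((yon S).map (p12 ≫ s))
    ((yon S).map (p23 ≫ t)) (by
      rw [Functor.map_comp, Functor.map_comp, Category.assoc, Category.assoc, sq.w, ← sq.w,
        ← Category.assoc, ← Category.assoc, ← Functor.map_comp, ← Functor.map_comp]
      have h1 : (yon S).map (p12 ≫ s) ≫ p = (yon S).map (p12 ≫ t) ≫ p := by
        rw [Functor.map_comp, Functor.map_comp, Category.assoc, Category.assoc, sq.w]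
      rw [h1, sqW.w]))
  have hp13s : p13 ≫ s = p12 ≫ s := (yon S).map_injective (by
    rw [Functor.map_comp, hp13, IsPullback.lift_fst])
  have hp13t : p13 ≫ t = p23 ≫ t := (yon S).map_injective (by
    rw [Functor.map_comp, hp13, IsPullback.lift_snd])
  let q3 := p23 ≫ t
  -- the triple product on `V2`
  have sqW' := IsPullback.of_hasPullback (pullback.fst e2 e2 ≫ e2) e2
  have hW' : IsAffine (pullback (pullback.fst e2 e2 ≫ e2) e2).left := isAffine_of sqW'
  let w1 := pullback.fst (pullback.fst e2 e2 ≫ e2) e2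
  let w3 := pullback.snd (pullback.fst e2 e2 ≫ e2) e2
  let l := sqZ2.lift (w1 ≫ pullback.snd e2 e2) w3 (by
    rw [Category.assoc, ← sqZ2.w]; exact sqW'.w)
  have hl1 : l ≫ pullback.fst e2 e2 = w1 ≫ pullback.snd e2 e2 := sqZ2.lift_fst _ _ _
  have hl2 : l ≫ pullback.snd e2 e2 = w3 := sqZ2.lift_snd _ _ _
  let j := sqW.lift (w1 ≫ k2) (l ≫ k2) (by
    rw [Category.assoc, Category.assoc, hk2t, hk2s, ← Category.assoc, ← Category.assoc, hl1])
  have hj1 : j ≫ p12 = w1 ≫ k2 := sqW.lift_fst _ _ _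
  have hj2 : j ≫ p23 = l ≫ k2 := sqW.lift_snd _ _ _
  have hj3 : j ≫ q3 = w3 ≫ c2 := by
    change j ≫ p23 ≫ t = _
    rw [← Category.assoc, hj2, Category.assoc, hk2t, ← Category.assoc, hl2]
  -- flatness
  have het : RepWith @Etale p := hp.1
  have hsfl : Etale s.left := het.2 p ((yon S).map t) s sq.flip
  have hp12e : Etale p12.left := by
    exact MorphismProperty.of_isPullback (P := @Etale) (sqW.map (Over.forget S)).flip hsfl
  have he2e : Etale e2.left := (repWith_yon_map_iff _ e2).1 (K606.RepWithBasic.of_isPullback sq2.flip hp.1)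
  have he2s : Surjective e2.left :=
    (repWith_yon_map_iff _ e2).1 (K606.RepWithBasic.of_isPullback sq2.flip hp.2)
  -- the rings
  let K : Ideal Γ(R.left, ⊤) := RingHom.ker k1.left.appTop.hom
  let K' : Ideal Γ(R.left, ⊤) := RingHom.ker k2.left.appTop.hom
  letI : Algebra Γ(R.left, ⊤) Γ((pullback t s).left, ⊤) := p12.left.appTop.hom.toAlgebra
  letI : Algebra Γ(X2.left, ⊤) Γ(V2.left, ⊤) := e2.left.appTop.hom.toAlgebra
  have hflat : Module.Flat Γ(R.left, ⊤) Γ((pullback t s).left, ⊤) := by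
    have : Flat p12.left := inferInstance
    exact (HasRingHomProperty.iff_of_isAffine (P := @Flat)).1 this
  have hff : Module.FaithfullyFlat Γ(X2.left, ⊤) Γ(V2.left, ⊤) :=
    (AlgebraicGeometry.Flat.flat_and_surjective_iff_faithfullyFlat_of_isAffine (f := e2.left)).1
      ⟨inferInstance, he2s⟩
  let θ : (Γ(R.left, ⊤) ⧸ K') ≃+* Γ((pullback e2 e2).left, ⊤) :=
    RingHom.quotientKerEquivOfSurjective hk2surj
  have hθ : ∀ x, θ (Ideal.Quotient.mk K' x) = k2.left.appTop.hom x := fun x => rfl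
  have hθ' : ∀ x, θ.symm (k2.left.appTop.hom x) = Ideal.Quotient.mk K' x := fun x => by
    rw [← hθ, RingEquiv.symm_apply_apply]
  letI : Algebra Γ(X2.left, ⊤) (Γ(R.left, ⊤) ⧸ K') :=
    (θ.symm.toRingHom.comp (pullback.fst e2 e2 ≫ e2).left.appTop.hom).toAlgebra
  have halg : ∀ γ, algebraMap Γ(X2.left, ⊤) (Γ(R.left, ⊤) ⧸ K') γ =
      θ.symm ((pullback.fst e2 e2).left.appTop.hom (e2.left.appTop.hom γ)) := by
    intro γ
    rw [← appTop_comp_apply]
    rfl
  have halg' : ∀ γ, algebraMap Γ(X2.left, ⊤) (Γ(R.left, ⊤) ⧸ K') γ =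
      θ.symm ((pullback.snd e2 e2).left.appTop.hom (e2.left.appTop.hom γ)) := by
    intro γ
    rw [halg, app_eq sqZ2.w]
  have hCs : ∀ (γ : Γ(X2.left, ⊤)) (y : Γ(U.left, ⊤)),
      c2.left.appTop.hom y = algebraMap Γ(X2.left, ⊤) Γ(V2.left, ⊤) γ →
      algebraMap Γ(X2.left, ⊤) (Γ(R.left, ⊤) ⧸ K') γ = Ideal.Quotient.mk K' (s.left.appTop.hom y) := by
    intro γ y hy
    have hy' : c2.left.appTop.hom y = e2.left.appTop.hom γ := hy
    rw [halg, ← hy', ← app_eq hk2s, hθ']
  have hCt : ∀ (γ : Γ(X2.left, ⊤)) (y : Γ(U.left, ⊤)),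
      c2.left.appTop.hom y = algebraMap Γ(X2.left, ⊤) Γ(V2.left, ⊤) γ →
      algebraMap Γ(X2.left, ⊤) (Γ(R.left, ⊤) ⧸ K') γ = Ideal.Quotient.mk K' (t.left.appTop.hom y) := by
    intro γ y hy
    have hy' : c2.left.appTop.hom y = e2.left.appTop.hom γ := hy
    rw [halg', ← hy', ← app_eq hk2t, hθ']
  have hgen : ∀ α : Γ(R.left, ⊤) ⧸ K', α ∈ AddSubgroup.closure
      {x | ∃ y z, x = Ideal.Quotient.mk K' (s.left.appTop.hom y * t.left.appTop.hom z)} := by
    intro α
    have h1 := RingPO.closure_of_isPushout (isPushout_of sqZ2) (θ α)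
    have h2 : ∀ z ∈ AddSubgroup.closure {z | ∃ x y, z = (pullback.fst e2 e2).left.appTop.hom x *
        (pullback.snd e2 e2).left.appTop.hom y}, θ.symm z ∈ AddSubgroup.closure
      {x | ∃ y z, x = Ideal.Quotient.mk K' (s.left.appTop.hom y * t.left.appTop.hom z)} := by
      intro z hz
      induction hz using AddSubgroup.closure_induction with
      | mem z hz =>
        obtain ⟨x, y, rfl⟩ := hz
        obtain ⟨x, rfl⟩ := hc2s x
        obtain ⟨y, rfl⟩ := hc2s y
        refine AddSubgroup.subset_closure ⟨x, y, ?_⟩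
        rw [← app_eq hk2s, ← app_eq hk2t, ← map_mul, hθ']
      | zero => rw [map_zero]; exact AddSubgroup.zero_mem _
      | add x y _ _ hx hy => rw [map_add]; exact AddSubgroup.add_mem _ hx hy
      | neg x _ hx => rw [map_neg]; exact AddSubgroup.neg_mem _ hx
    have h3 := h2 _ h1
    rwa [RingEquiv.symm_apply_apply] at h3
  -- the map `ψ`
  let E : CommRingCat.{u} := CommRingCat.of ((Γ(R.left, ⊤) ⧸ K') ⊗[Γ(X2.left, ⊤)] Γ(V2.left, ⊤))
  have hdw : (pullback.fst e2 e2 ≫ e2).left.appTop ≫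
      (CommRingCat.ofHom ((Algebra.TensorProduct.includeLeftRingHom (R := Γ(X2.left, ⊤))
        (A := Γ(R.left, ⊤) ⧸ K') (B := Γ(V2.left, ⊤))).comp θ.symm.toRingHom) :
        Γ((pullback e2 e2).left, ⊤) ⟶ E) = e2.left.appTop ≫
      CommRingCat.ofHom (Algebra.TensorProduct.includeRight (R := Γ(X2.left, ⊤))
        (A := Γ(R.left, ⊤) ⧸ K') (B := Γ(V2.left, ⊤))).toRingHom := by
    ext γ
    exact ((Algebra.TensorProduct.includeRight (R := Γ(X2.left, ⊤))
      (A := Γ(R.left, ⊤) ⧸ K') (B := Γ(V2.left, ⊤))).commutes γ).symm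
  let d : Γ((pullback (pullback.fst e2 e2 ≫ e2) e2).left, ⊤) ⟶ E :=
    (isPushout_of sqW').desc _ _ hdw
  have hd1 : ∀ x, d.hom (w1.left.appTop.hom x) = (θ.symm x) ⊗ₜ 1 := by
    intro x
    have h := (isPushout_of sqW').inl_desc _ _ hdw
    exact congrArg (fun φ : Γ((pullback e2 e2).left, ⊤) ⟶ E => φ.hom x) h
  have hd3 : ∀ y, d.hom (w3.left.appTop.hom y) = 1 ⊗ₜ y := by
    intro y
    have h := (isPushout_of sqW').inr_desc _ _ hdw
    exact congrArg (fun φ : Γ(V2.left, ⊤) ⟶ E => φ.hom y) h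
  let ψ : Γ((pullback t s).left, ⊤) →+* (Γ(R.left, ⊤) ⧸ K') ⊗[Γ(X2.left, ⊤)] Γ(V2.left, ⊤) :=
    d.hom.comp j.left.appTop.hom
  have hψ1 : ∀ a, ψ (algebraMap Γ(R.left, ⊤) Γ((pullback t s).left, ⊤) a) =
      (Ideal.Quotient.mk K' a) ⊗ₜ 1 := by
    intro a
    change d.hom (j.left.appTop.hom (p12.left.appTop.hom a)) = _
    rw [app_eq hj1, hd1, hθ']
  have hψ3 : ∀ y, ψ (q3.left.appTop.hom y) = 1 ⊗ₜ c2.left.appTop.hom y := by
    intro y
    change d.hom (j.left.appTop.hom (q3.left.appTop.hom y)) = _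
    rw [app_eq hj3, hd3]
  -- the cocycle
  obtain ⟨a0, ha0⟩ := hc1s (e1.left.appTop.hom g)
  have hcoc : s.left.appTop.hom a0 - t.left.appTop.hom a0 ∈ K := by
    change k1.left.appTop.hom _ = 0
    rw [map_sub, app_eq hk1s, app_eq hk1t, ha0, app_eq sqZ1.w, sub_self]
  obtain ⟨m, hm, hm'⟩ := AlgH1.h1 s.left.appTop.hom t.left.appTop.hom p13.left.appTop.hom
    p23.left.appTop.hom q3.left.appTop.hom
    (fun a => app_eq hp13s a)
    (fun a => by rw [app_eq hp13t, ← appTop_comp_apply]; rfl)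
    (fun a => (app_eq sqW.w a).symm)
    (fun a => by rw [← appTop_comp_apply]; rfl)
    (RingHom.ker c1.left.appTop.hom) (RingHom.ker c2.left.appTop.hom) hJJ K K'
    hker1s.symm hker1t.symm hker2s.symm c2.left.appTop.hom hc2s hCs hCt hgen ψ hψ1 hψ3 a0 hcoc
  refine ⟨a0 - m, ?_, ?_⟩
  · rw [map_sub, map_sub]
    linear_combination -hm'
  · have hm0 : c1.left.appTop.hom m = 0 := hm
    rw [map_sub, hm0, sub_zero, ha0]

end K650.GSurj
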