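import Mathlib
import Groth.Prelude
import Groth.Agent.AlgSp.K650.QAff

/-!
# S16028
-/

set_option autoImplicit false
set_option backward.isDefEq.respectTransparency.types false
universe u v
open CategoryTheory CategoryTheory.Limits AlgebraicGeometry Opposite AlgSp

namespace K650.S28

theorem main {S : Scheme.{u}} [IsLocallyNoetherian S] (H33 : K604.Approx.IntApprox S) {X : Sp S}
    (hX : IsAlgSpace X) (hsep : IsSeparatedSp X)
    {Y : Over S} {p : (yon S).obj Y ⟶ X} (hp : RepWith @Etale p) (hps : RepWith @Surjective p)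
    (hY : LocallyOfFiniteType Y.hom) (Xt : Over S) (π : (yon S).obj Xt ⟶ X)
    (hint : RepWith @IsIntegralHom π) (hsurj : RepWith @Surjective π)
    (hfib : ∀ x : Points X, ∃ U : Xt.left.Opens, IsAffineOpen U ∧
      ∀ y : ↥Xt.left, Points.ofPt π y = x → y ∈ U) :
    X.obj.IsRepresentable := by
  have hYN : IsLocallyNoetherian Y.left := LocallyOfFiniteType.isLocallyNoetherian Y.hom
  have hN : IsLocNoethSp X := ⟨Y, p, hp, hps, hYN⟩
  have hqs : IsQuasiSeparatedSp X := K606.RepWithBasic.mono (fun _ _ f hf => by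
    have : IsClosedImmersion f := hf
    infer_instance) hsep
  refine (K610.SchLocus.isRepresentable_iff_forall (X := ⟨X, hX⟩)).2 fun x => ?_
  obtain ⟨U, hU, hxU⟩ := hfib x
  obtain ⟨W, hW, hx⟩ := (QAff.inAffine_of_integral H33 hX hN hqs π hint hsurj {x}
    (Set.finite_singleton x) U hU (fun y hy => hxU y hy)).isSch
  exact ⟨W, hW, hx rfl⟩

end K650.S28
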