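import Mathlib
import Groth.Prelude
import Groth.Agent.AlgSp.K650.FlatClos
import Groth.Agent.AlgSp.K625.Prod

/-!
# S16034
-/

set_option autoImplicit false
set_option backward.isDefEq.respectTransparency.types false
universe u v
open CategoryTheory CategoryTheory.Limits AlgebraicGeometry Opposite AlgSp

namespace K650.S34

variable {S : Scheme.{u}}

theorem isRepresentable_of_factor {X G : Sp S} {ι : G ⟶ X} (hι : RepWith @IsOpenImmersion ι)
    {V : Over S} {q : (yon S).obj V ⟶ G} (hq : K613.Cover.FSurj q) {Xb : Over S}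
    {j : (yon S).obj Xb ⟶ X} [Mono j] (b : V ⟶ Xb) (hb : (yon S).map b ≫ j = q ≫ ι) :
    G.obj.IsRepresentable := by
  have := hq.epi
  obtain ⟨f', hf'⟩ := K610.Factor.exists_factor_of_epi j ι q ((yon S).map b) hb
  have h1 : RepWith @IsOpenImmersion f' := K610.OpenImm.repWith_of_comp_mono (j := j) (by
    rw [hf']; exact hι)
  rw [← K610.SchLocus.isSch_iff h1]
  refine (K610.SchLocus.isSch_univ_iff.2
    (K610.ZarGlue.isRepresentable_iff.2 ⟨Xb, ⟨Iso.refl _⟩⟩)).mono ?_ (Set.subset_univ _)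
  exact (K610.OpenImm.isOpenEmbedding_points (IsAlgSpace.yon_obj Xb) h1).isOpen_range

theorem case_closed {X : Sp S} (hX : IsAlgSpace X) (hN : IsLocNoethSp X) {Xb : Over S}
    (hXb : Flat Xb.hom) {j : (yon S).obj Xb ⟶ X} [Mono j]
    (h : ∀ T : Over S, Flat T.hom → ∀ a : (yon S).obj T ⟶ X, ∃ b : T ⟶ Xb, (yon S).map b ≫ j = a)
    {R B : CommRingCat.{u}} [IsDedekindDomain R] {w : Spec R ⟶ S} [IsOpenImmersion w] (φ : R ⟶ B)
    {c : (yon S).obj (Over.mk (Spec.map φ ≫ w)) ⟶ X} (hc : RepWith @Etale c)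
    {H : Over S} {i : (yon S).obj H ⟶ X} (hi : RepWith @IsClosedImmersion i)
    (hcov : ∀ z : Spec B, Points.ofPt c z ∈ Set.range (Points.ofPt j) ∨
      Points.ofPt c z ∈ Set.range (Points.ofPt i)) (z : Spec B) :
    Sat.InAffine X {Points.ofPt c z} := by
  have hopen : IsOpen (Set.range (Points.ofPt c)) := (K609.Points.isOpenMap_ofPt hc).isOpen_range
  have hι := K610.Sub.repWith_openPred hopen
  have hrange := K610.Sub.range_openPred (X := X) (Set.range (Points.ofPt c))
  set G := (K610.Sub.openPred (X := X) (Set.range (Points.ofPt c))).sub with hGdef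
  set ι : G ⟶ X := (K610.Sub.openPred (X := X) (Set.range (Points.ofPt c))).ι with hιdef
  have hG : IsAlgSpace G := K610.Sub.isAlgSpace_of_mono hι.1 hX
  have hNG : IsLocNoethSp G := Sat.isLocNoethSp_of_repWith hN
    (K606.RepWithBasic.mono (fun _ _ f hf => by
      have : IsOpenImmersion f := hf
      infer_instance) hι)
  obtain ⟨q, hqι, hq, hqs⟩ := K610.OpenImm.exists_corestrict hX hι hrange @Etale hc
  -- the flat part
  obtain ⟨O, o, fst, sq⟩ := hι.1 j
  have ho : IsOpenImmersion o.left := hι.2 j fst o sq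
  have hfst : Mono fst := sq.mono_fst_of_mono
  have hO : Flat O.hom := by
    rw [← Over.w o]
    infer_instance
  have hcl : RepWith @IsClosedImmersion fst := by
    refine FlatClos.isClosedImmersion_of_flat hG φ hq hqs hO fun T hT a => ?_
    obtain ⟨b, hb⟩ := h T hT (a ≫ ι)
    obtain ⟨l, hl⟩ := (yon S).map_surjective (sq.lift a ((yon S).map b) hb.symm)
    exact ⟨l, by rw [hl, sq.lift_fst]⟩
  -- the closed part
  obtain ⟨O₂, o₂, fst₂, sq₂⟩ := hι.1 i
  have hcl₂ : RepWith @IsClosedImmersion fst₂ := K606.RepWithBasic.of_isPullback sq₂.flip hi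
  have hpt : ∀ z : Spec B, Points.map ι (Points.ofPt q z) = Points.ofPt c z := fun z => by
    rw [← hqι]; rfl
  have key := Two.inAffine_of_two hG hNG fst fst₂ hcl hcl₂ (fun x => by
    obtain ⟨z, rfl⟩ := K609.Points.surjective_ofPt_of_repWith_surjective hqs x
    rcases hcov z with ⟨y, hy⟩ | ⟨y, hy⟩
    · left
      obtain ⟨p, hp, -⟩ := K609.Points.exists_of_isPullback sq (Points.ofPt q z)
        (Points.ofScheme Xb y) ((hpt z).trans hy.symm)
      rw [K610.SchLocus.range_ofPt]
      exact ⟨p, hp⟩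
    · right
      obtain ⟨p, hp, -⟩ := K609.Points.exists_of_isPullback sq₂ (Points.ofPt q z)
        (Points.ofScheme H y) ((hpt z).trans hy.symm)
      rw [K610.SchLocus.range_ofPt]
      exact ⟨p, hp⟩) (Points.ofPt q z)
  have h2 := key.of_open hι
  rwa [Set.image_singleton, hpt] at h2

theorem isLocallyNoetherian_of_dedekind [IsIntegral S]
    (hD : ∀ U : S.affineOpens, Nonempty (U : S.Opens) → IsDedekindDomain Γ(S, U)) :
    IsLocallyNoetherian S := by
  refine ⟨fun U => ?_⟩
  by_cases h : Nonempty (U : S.Opens)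
  · have := hD U h
    infer_instance
  · have h1 : (U : S.Opens) = ⊥ := by
      ext x
      exact ⟨fun hx => (h ⟨⟨x, hx⟩⟩).elim, fun hx => hx.elim⟩
    have h2 : Subsingleton Γ(S, U) := by
      rw [h1]
      exact CommRingCat.subsingleton_of_isTerminal S.sheaf.isTerminalOfEmpty
    exact isNoetherian_of_subsingleton _ _

theorem isClosed_pt [IsIntegral S]
    (hD : ∀ U : S.affineOpens, Nonempty (U : S.Opens) → IsDedekindDomain Γ(S, U))
    {W : S.Opens} (r : Γ(S, W)) (hr : r ≠ 0) (t : S) (ht : t ∉ S.basicOpen r) :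
    IsClosed ({t} : Set S) := by
  have hne : t ≠ genericPoint S := by
    rintro rfl
    refine ht ?_
    refine ((genericPoint_spec S).mem_open_set_iff (S.basicOpen r).2).2 ?_
    rw [Set.univ_inter]
    rw [Set.nonempty_iff_ne_empty]
    intro h
    refine hr ?_
    rw [← basicOpen_eq_bot_iff]
    exact TopologicalSpace.Opens.ext h
  rw [← closure_subset_iff_isClosed]
  intro t' ht'
  have hsp : t ⤳ t' := by rwa [specializes_iff_mem_closure]
  obtain ⟨W', hW', htW', -⟩ := exists_isAffineOpen_mem_and_subset (U := (⊤ : S.Opens)) (x := t') trivial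
  have hDW := hD ⟨W', hW'⟩ ⟨⟨t', htW'⟩⟩
  have hDW : IsDedekindDomain Γ(S, W') := hDW
  have h1 : t ∈ W' := hsp.mem_open W'.2 htW'
  have h2 : genericPoint S ∈ W' := ((genericPoint_spec S).specializes trivial).mem_open W'.2 htW'
  have hrange := hW'.range_fromSpec
  obtain ⟨p', hp'⟩ : t' ∈ Set.range hW'.fromSpec := by rw [hrange]; exact htW'
  obtain ⟨p, hp⟩ : t ∈ Set.range hW'.fromSpec := by rw [hrange]; exact h1
  obtain ⟨p0, hp0⟩ : genericPoint S ∈ Set.range hW'.fromSpec := by rw [hrange]; exact h2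
  have hind := hW'.fromSpec.isOpenEmbedding.isInducing
  have h3 : p ⤳ p' := by
    rw [← hind.specializes_iff, hp, hp']
    exact hsp
  have h4 : p0 ⤳ p := by
    rw [← hind.specializes_iff, hp, hp0]
    exact (genericPoint_spec S).specializes trivial
  have h3' : p.asIdeal ≤ p'.asIdeal := (PrimeSpectrum.le_iff_specializes _ _).2 h3
  have h4' : p0.asIdeal ≤ p.asIdeal := (PrimeSpectrum.le_iff_specializes _ _).2 h4
  have hpb : p.asIdeal ≠ ⊥ := by
    intro h
    rw [h, le_bot_iff] at h4'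
    refine hne ?_
    rw [← hp, ← hp0]
    congr 1
    exact PrimeSpectrum.ext (h.trans h4'.symm)
  have hmax : p.asIdeal.IsMaximal := p.isPrime.isMaximal hpb
  have h5 : p = p' := PrimeSpectrum.ext (hmax.eq_of_le p'.isPrime.ne_top h3')
  rw [← hp, ← hp', h5]
  rfl

theorem closed_aux {O : CommRingCat.{u}} {I J : Ideal O} (h : I = J) (f : Spec O ⟶ S) (t : S)
    (hJ : IsClosedImmersion (Spec.map (CommRingCat.ofHom (Ideal.Quotient.mk J)) ≫ f) ∧
      Set.range (Spec.map (CommRingCat.ofHom (Ideal.Quotient.mk J)) ≫ f) = {t}) :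
    IsClosedImmersion (Spec.map (CommRingCat.ofHom (Ideal.Quotient.mk I)) ≫ f) ∧
      Set.range (Spec.map (CommRingCat.ofHom (Ideal.Quotient.mk I)) ≫ f) = {t} := by
  subst h
  exact hJ

/-- The point as a closed subscheme. -/
theorem isClosedImmersion_K (t : S) (ht : IsClosed ({t} : Set S)) :
    IsClosedImmersion (Spec.map (CommRingCat.ofHom
        (Ideal.Quotient.mk (IsLocalRing.maximalIdeal ↑(S.presheaf.stalk t) ^ (0 + 1)))) ≫
        S.fromSpecStalk t) ∧
    Set.range (Spec.map (CommRingCat.ofHom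
        (Ideal.Quotient.mk (IsLocalRing.maximalIdeal ↑(S.presheaf.stalk t) ^ (0 + 1)))) ≫
        S.fromSpecStalk t) = {t} := by
  have he : IsLocalRing.maximalIdeal ↑(S.presheaf.stalk t) ^ (0 + 1) =
      IsLocalRing.maximalIdeal ↑(S.presheaf.stalk t) := by rw [zero_add, pow_one]
  exact closed_aux he (S.fromSpecStalk t) t
    ⟨isClosed_singleton_iff_isClosedImmersion.1 ht, Scheme.range_fromSpecResidueField t⟩

theorem exists_lift_loc {B : CommRingCat.{u}} (b : B) (z : Spec B) (hz : b ∉ z.asIdeal) :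
    ∃ z', Spec.map (CommRingCat.ofHom (algebraMap B (Localization.Away b))) z' = z := by
  have h1 := PrimeSpectrum.localization_away_comap_range (Localization.Away b) b
  have h2 : z ∈ (PrimeSpectrum.basicOpen b : Set (PrimeSpectrum B)) := hz
  rw [← h1] at h2
  exact h2

theorem notMem_loc {B : CommRingCat.{u}} (b : B) (z : Spec (CommRingCat.of (Localization.Away b))) :
    b ∉ (Spec.map (CommRingCat.ofHom (algebraMap B (Localization.Away b))) z).asIdeal := by
  have h1 : Spec.map (CommRingCat.ofHom (algebraMap B (Localization.Away b))) z ∈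
      (PrimeSpectrum.basicOpen b : Set (PrimeSpectrum B)) := by
    rw [← PrimeSpectrum.localization_away_comap_range (Localization.Away b) b]
    exact ⟨z, rfl⟩
  exact h1

theorem mem_range_of_prod {X : Sp S} {K H : Over S} (e : (yon S).obj H ≅ X ⨯ (yon S).obj K)
    {T : Over S} (c : (yon S).obj T ⟶ X) (z : T.left) (κ : K.left) (h : K.hom κ = T.hom z) :
    Points.ofPt c z ∈ Set.range (Points.ofPt (e.hom ≫ prod.fst : (yon S).obj H ⟶ X)) := by
  have hpp := K625.Prod.isPullback_prod X ((yon S).obj K)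
  have h3 : Points.map ((K625.Prod.isTerminalBase S).from X) (Points.ofPt c z) =
      Points.map ((K625.Prod.isTerminalBase S).from ((yon S).obj K)) (Points.ofScheme K κ) := by
    have h4 : c ≫ (K625.Prod.isTerminalBase S).from X = (yon S).map (K625.Prod.toBase T) :=
      (K625.Prod.isTerminalBase S).hom_ext _ _
    have h5 : Points.map ((K625.Prod.isTerminalBase S).from X) (Points.ofPt c z) =
        Points.ofPt (c ≫ (K625.Prod.isTerminalBase S).from X) z := rfl
    rw [h5, h4, K609.Points.ofPt_yon_map, K625.Prod.from_eq, K609.Points.map_yon_map_ofScheme]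
    congr 1
    exact h.symm
  obtain ⟨q, hq, -⟩ := K609.Points.exists_of_isPullback hpp _ _ h3
  obtain ⟨q', hq'⟩ := K610.SchLocus.surjective_ofPt_iso e q
  refine ⟨q', ?_⟩
  have h6 : Points.ofPt (e.hom ≫ (prod.fst : X ⨯ (yon S).obj K ⟶ X)) q' =
    Points.map (prod.fst : X ⨯ (yon S).obj K ⟶ X) (Points.ofPt e.hom q') := rfl
  rw [h6, hq', hq]

/-- the chart over a localization -/
theorem exists_loc {X : Sp S} {R B : CommRingCat.{u}} {w : Spec R ⟶ S} (φ : R ⟶ B)
    {c : (yon S).obj (Over.mk (Spec.map φ ≫ w)) ⟶ X} (hc : RepWith @Etale c) (b : B) :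
    ∃ c' : (yon S).obj (Over.mk (Spec.map (φ ≫ CommRingCat.ofHom
        (algebraMap B (Localization.Away b))) ≫ w)) ⟶ X, RepWith @Etale c' ∧
      ∀ z, Points.ofPt c' z = Points.ofPt c
        (Spec.map (CommRingCat.ofHom (algebraMap B (Localization.Away b))) z) := by
  let T : Over S := Over.mk (Spec.map (φ ≫ CommRingCat.ofHom
        (algebraMap B (Localization.Away b))) ≫ w)
  let m : T ⟶ Over.mk (Spec.map φ ≫ w) := Over.homMk (Spec.map (CommRingCat.ofHom
        (algebraMap B (Localization.Away b)))) (by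
    change _ ≫ Spec.map φ ≫ w = Spec.map _ ≫ w
    rw [Spec.map_comp, Category.assoc])
  have hm : IsOpenImmersion m.left := IsOpenImmersion.of_isLocalization b
  have hm' : RepWith @Etale ((yon S).map m) := (repWith_yon_map_iff _ _).2
    (inferInstance : Etale m.left)
  refine ⟨(yon S).map m ≫ c, K606.RepWithBasic.comp hm' hc, fun z => ?_⟩
  rw [K609.Points.ofPt_yon_map_comp]
  rfl

theorem main [IsIntegral S]
    (hD : ∀ U : S.affineOpens, Nonempty (U : S.Opens) → IsDedekindDomain Γ(S, U))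
    (X : Sp S) (hX : IsAlgSpace X)
    {Y : Over S} {p : (yon S).obj Y ⟶ X} (hp : RepWith @Etale p) (hps : RepWith @Surjective p)
    (hY : LocallyOfFiniteType Y.hom)
    {Xb : Over S} {j : (yon S).obj Xb ⟶ X} (hXb : Flat Xb.hom) (hj : Mono j)
    (hfl : ∀ T : Over S, Flat T.hom → ∀ a : (yon S).obj T ⟶ X, ∃ b : T ⟶ Xb, (yon S).map b ≫ j = a)
    (hinf : ∀ t : S, IsClosed ({t} : Set S) →
      (X ⨯ (yon S).obj (Over.mk (Spec.map (CommRingCat.ofHom
        (Ideal.Quotient.mk (IsLocalRing.maximalIdeal ↑(S.presheaf.stalk t) ^ (0 + 1)))) ≫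
          S.fromSpecStalk t))).obj.IsRepresentable) :
    X.obj.IsRepresentable := by
  have hSN : IsLocallyNoetherian S := isLocallyNoetherian_of_dedekind hD
  have hYN : IsLocallyNoetherian Y.left := LocallyOfFiniteType.isLocallyNoetherian Y.hom
  have hN : IsLocNoethSp X := ⟨Y, p, hp, hps, hYN⟩
  refine (K610.SchLocus.isRepresentable_iff_forall (X := ⟨X, hX⟩)).2 fun x => ?_
  obtain ⟨y, rfl⟩ := K609.Points.surjective_ofPt_of_repWith_surjective hps x
  obtain ⟨W, hW, htW, -⟩ := exists_isAffineOpen_mem_and_subset (U := (⊤ : S.Opens))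
    (x := Y.hom y) trivial
  obtain ⟨V, hV, hyV, hVW⟩ := exists_isAffineOpen_mem_and_subset (U := Y.hom ⁻¹ᵁ W) (x := y) htW
  have hDW : IsDedekindDomain Γ(S, W) := hD ⟨W, hW⟩ ⟨⟨_, htW⟩⟩
  have hBN : IsNoetherianRing Γ(Y.left, V) := IsLocallyNoetherian.component_noetherian ⟨V, hV⟩
  let φ : Γ(S, W) ⟶ Γ(Y.left, V) := Y.hom.appLE W V hVW
  let w : Spec Γ(S, W) ⟶ S := hW.fromSpec
  let v : Spec Γ(Y.left, V) ⟶ Y.left := hV.fromSpec
  have hvw : v ≫ Y.hom = Spec.map φ ≫ w := (hW.SpecMap_appLE_fromSpec Y.hom hV hVW).symm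
  let vm : Over.mk (Spec.map φ ≫ w) ⟶ Y := Over.homMk v hvw
  have hvm : IsOpenImmersion vm.left := (inferInstance : IsOpenImmersion hV.fromSpec)
  let c : (yon S).obj (Over.mk (Spec.map φ ≫ w)) ⟶ X := (yon S).map vm ≫ p
  have hc : RepWith @Etale c := K606.RepWithBasic.comp ((repWith_yon_map_iff _ _).2
    (inferInstance : Etale vm.left)) hp
  obtain ⟨y0, hy0⟩ : y ∈ Set.range v := by
    change y ∈ Set.range hV.fromSpec
    rw [hV.range_fromSpec]; exact hyV
  have hcy : Points.ofPt c y0 = Points.ofPt p y := by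
    change Points.ofPt ((yon S).map vm ≫ p) y0 = _
    rw [K609.Points.ofPt_yon_map_comp]
    exact congrArg _ hy0
  obtain ⟨r, hr, hkill⟩ := DedAlg.exists_kill φ.hom
  -- the part where `r` is invertible is flat
  obtain ⟨cr, hcr, hcrz⟩ := exists_loc φ hc (φ.hom r)
  have hflat : Flat (Over.mk (Spec.map (φ ≫ CommRingCat.ofHom
      (algebraMap Γ(Y.left, V) (Localization.Away (φ.hom r)))) ≫ w)).hom := by
    have h1 : Flat (Spec.map (φ ≫ CommRingCat.ofHom
      (algebraMap Γ(Y.left, V) (Localization.Away (φ.hom r))))) := by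
      rw [Flat.SpecMap_iff]
      exact DedAlg.flat_away' φ.hom hr hkill
    have h2 : Flat w := (inferInstance : Flat hW.fromSpec)
    exact (inferInstance : Flat (Spec.map (φ ≫ CommRingCat.ofHom
      (algebraMap Γ(Y.left, V) (Localization.Away (φ.hom r)))) ≫ w))
  obtain ⟨br, hbr⟩ := hfl _ hflat cr
  by_cases hr0 : φ.hom r ∈ y0.asIdeal
  swap
  · -- flat case
    obtain ⟨z0, hz0⟩ := exists_lift_loc _ y0 hr0
    have hopen : IsOpen (Set.range (Points.ofPt cr)) := (K609.Points.isOpenMap_ofPt hcr).isOpen_range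
    have hι := K610.Sub.repWith_openPred hopen
    have hrange := K610.Sub.range_openPred (X := X) (Set.range (Points.ofPt cr))
    obtain ⟨q, hqι, hq, hqs⟩ := K610.OpenImm.exists_corestrict hX hι hrange @Etale hcr
    have h1 := isRepresentable_of_factor hι (K613.Cover.ESurj.of_repWith hq hqs).fSurj br
      (hbr.trans hqι.symm)
    refine ⟨_, (K610.SchLocus.isSch_iff hι).2 h1, ?_⟩
    rw [hrange]
    exact ⟨z0, by rw [hcrz, hz0, hcy]⟩
  · -- torsion case
    let pt : Ideal Γ(S, W) := y0.asIdeal.comap φ.hom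
    have hpt : pt.IsPrime := Ideal.IsPrime.comap _
    obtain ⟨f, hf, hfq⟩ := DedAlg.exists_sep hr (p := pt) hr0
    obtain ⟨cf, hcf, hcfz⟩ := exists_loc φ hc (φ.hom f)
    -- the closed point
    have hw0 : w (Spec.map φ y0) = Y.hom y := by
      rw [← hy0, ← Scheme.Hom.comp_apply, ← hvw, Scheme.Hom.comp_apply]
    have htr : Y.hom y ∉ S.basicOpen r := by
      intro h
      have h1 : Spec.map φ y0 ∈ w ⁻¹ᵁ (S.basicOpen r) := by
        change w (Spec.map φ y0) ∈ S.basicOpen r
        rw [hw0]; exact h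
      rw [show w = hW.fromSpec from rfl, hW.fromSpec_preimage_basicOpen] at h1
      exact h1 hr0
    have hcl : IsClosed ({Y.hom y} : Set S) := isClosed_pt hD r hr _ htr
    obtain ⟨hK, hKr⟩ := isClosedImmersion_K (Y.hom y) hcl
    let K : Over S := Over.mk (Spec.map (CommRingCat.ofHom
        (Ideal.Quotient.mk (IsLocalRing.maximalIdeal ↑(S.presheaf.stalk (Y.hom y)) ^ (0 + 1)))) ≫
          S.fromSpecStalk (Y.hom y))
    obtain ⟨H, ⟨e⟩⟩ := K610.ZarGlue.isRepresentable_iff.1 (hinf (Y.hom y) hcl)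
    have hfst : RepWith @IsClosedImmersion (prod.fst : X ⨯ (yon S).obj K ⟶ X) :=
      K625.Prod.repWith_fst _ X K hK
    have hi : RepWith @IsClosedImmersion (e.hom ≫ prod.fst : (yon S).obj H ⟶ X) :=
      K606.RepWithBasic.precomp_iso e hfst
    have hcov' : ∀ z' : Spec Γ(Y.left, V), φ.hom f ∉ z'.asIdeal →
        Points.ofPt c z' ∈ Set.range (Points.ofPt j) ∨
        Points.ofPt c z' ∈ Set.range (Points.ofPt (e.hom ≫ prod.fst : (yon S).obj H ⟶ X)) := by
      intro z' hfz
      by_cases hrz : φ.hom r ∈ z'.asIdeal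
      · right
        have h1 : z'.asIdeal.comap φ.hom = pt :=
          hfq _ (Ideal.IsPrime.comap _) hrz hfz
        have h2 : Spec.map φ z' = Spec.map φ y0 := PrimeSpectrum.ext h1
        obtain ⟨κ, hκ⟩ : Y.hom y ∈ Set.range K.hom := by
          change _ ∈ Set.range (Spec.map (CommRingCat.ofHom
            (Ideal.Quotient.mk (IsLocalRing.maximalIdeal ↑(S.presheaf.stalk (Y.hom y)) ^ (0 + 1)))) ≫
              S.fromSpecStalk (Y.hom y))
          rw [hKr]; rfl
        refine mem_range_of_prod e c z' κ ?_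
        change K.hom κ = (Spec.map φ ≫ w) z'
        rw [hκ, Scheme.Hom.comp_apply, h2, hw0]
      · left
        obtain ⟨z1, hz1⟩ := exists_lift_loc _ z' hrz
        refine ⟨br.left z1, ?_⟩
        rw [← K609.Points.ofPt_yon_map_comp, hbr, hcrz, hz1]
    have hcov : ∀ z, Points.ofPt cf z ∈ Set.range (Points.ofPt j) ∨
        Points.ofPt cf z ∈ Set.range (Points.ofPt (e.hom ≫ prod.fst : (yon S).obj H ⟶ X)) :=
      fun z => by
        rw [hcfz]
        exact hcov' _ (notMem_loc _ z)
    obtain ⟨z0, hz0⟩ := exists_lift_loc _ y0 hf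
    have hw : IsOpenImmersion w := (inferInstance : IsOpenImmersion hW.fromSpec)
    have key := case_closed hX hN hXb hfl (φ ≫ CommRingCat.ofHom
        (algebraMap Γ(Y.left, V) (Localization.Away (φ.hom f)))) hcf hi hcov z0
    obtain ⟨W', hW', hx⟩ := key.isSch
    refine ⟨W', hW', hx ?_⟩
    rw [hcfz, hz0, hcy]
    rfl

end K650.S34
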