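import Mathlib
import Groth.Prelude
import Groth.Agent.AlgSp.K650.ThmK
import Groth.Agent.AlgSp.K650.FinCov
import Groth.Agent.AlgSp.K618.Dim
import Groth.Agent.AlgSp.K607.SpKer
import Groth.Agent.AlgSp.K609.Sep
import Groth.Agent.AlgSp.K609.QC
import Groth.Agent.AlgSp.K595.DescInst
import Groth.Agent.S0217
import Groth.Agent.S0116

/-!
# S16039
-/

set_option autoImplicit false
set_option backward.isDefEq.respectTransparency.types false
universe u v
open CategoryTheory CategoryTheory.Limits AlgebraicGeometry Opposite AlgSp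

namespace K650.S39

variable {S : Scheme.{u}}

/-- A scheme with a separated morphism to a separated algebraic space is separated. -/
theorem isSeparated_hom {X : Sp S} (hX : IsAlgSpace X) (hsep : IsSeparatedSp X) {Y : Over S}
    {g : (yon S).obj Y ⟶ X} (hg : RepWith @IsSeparated g) : IsSeparated Y.hom := by
  obtain ⟨R, p, q, sq⟩ := K609.Sep.exists_isPullback_yon hX.diag g g
  have hp : IsSeparated q.left := hg.2 g ((yon S).map p) q sq
  have h1 := K609.Diag.prop_of_repWith_diag @IsClosedImmersion hsep sq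
  obtain ⟨d, hd⟩ := (yon S).map_surjective (sq.lift (𝟙 _) (𝟙 _) rfl)
  have hdp : d ≫ p = 𝟙 _ := (yon S).map_injective (by
    rw [Functor.map_comp, hd, sq.lift_fst, CategoryTheory.Functor.map_id])
  have hdq : d ≫ q = 𝟙 _ := (yon S).map_injective (by
    rw [Functor.map_comp, hd, sq.lift_snd, CategoryTheory.Functor.map_id])
  have h2 : IsClosedImmersion d.left := by
    have h3 : IsClosedImmersion (d.left ≫ q.left) := by
      rw [← Over.comp_left, hdq]
      exact (inferInstance : IsClosedImmersion (𝟙 Y.left))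
    exact IsClosedImmersion.of_comp d.left q.left
  have h4 : d.left ≫ pullback.lift p.left q.left ((Over.w p).trans (Over.w q).symm) =
      pullback.diagonal Y.hom := by
    apply pullback.hom_ext
    · rw [Category.assoc, pullback.lift_fst, ← Over.comp_left, hdp, pullback.diagonal_fst]
      rfl
    · rw [Category.assoc, pullback.lift_snd, ← Over.comp_left, hdq, pullback.diagonal_snd]
      rfl
  refine ⟨?_⟩
  rw [← h4]
  exact IsClosedImmersion.comp _ _

theorem isLocallyNoetherian_of_isLocNoethSp {Y : Over S} (h : IsLocNoethSp ((yon S).obj Y)) :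
    IsLocallyNoetherian Y.left := by
  obtain ⟨U, p, hp, hps, hU⟩ := h
  obtain ⟨p, rfl⟩ := (yon S).map_surjective p
  have h1 : Etale p.left := (repWith_yon_map_iff _ _).1 hp
  have h2 : Surjective p.left := (repWith_yon_map_iff _ _).1 hps
  have h3 : IsLocallyNoetherian U.left := hU
  exact Groth.Agent.S0116.result p.left

theorem codim_one [IsLocallyNoetherian S] (H33 : K604.Approx.IntApprox S) {X : Sp S} (hX : IsAlgSpace X) (hN : IsLocNoethSp X)
    (hqc : IsQuasiCompactSp X) (hsep : IsSeparatedSp X)
    {W : S.Opens} (hW : IsAffineOpen W)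
    (hXW : ∀ (T : Over S) (_ : (yon S).obj T ⟶ X), Set.range T.hom ⊆ W)
    {V : Over S} {a : (yon S).obj V ⟶ X} (ha : RepWith @Etale a) (v : V.left)
    (hv : ringKrullDim (V.left.presheaf.stalk v) ≤ 1) : Sat.InAffine X {Points.ofPt a v} := by
  have hqs : IsQuasiSeparatedSp X := K606.RepWithBasic.mono (fun _ _ f hf => by
    have : IsClosedImmersion f := hf
    infer_instance) hsep
  obtain ⟨Y, g, hg, hgs⟩ := FinCov.exists_cover H33 hX hqc hqs
  have hYN : IsLocallyNoetherian Y.left := isLocallyNoetherian_of_isLocNoethSp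
    (Sat.isLocNoethSp_of_repWith hN (K606.RepWithBasic.mono (fun _ _ f hf => by
      have : IsFinite f := hf
      infer_instance) hg))
  have hYS : IsSeparated Y.hom := isSeparated_hom hX hsep (K606.RepWithBasic.mono (fun _ _ f hf => by
      have : IsFinite f := hf
      infer_instance) hg)
  -- absolute separatedness
  have hYsep : Y.left.IsSeparated := by
    have h1 := hXW Y g
    let h : Y.left ⟶ W.toScheme := IsOpenImmersion.lift W.ι Y.hom (by
      rw [Scheme.Opens.range_ι]; exact h1)
    have hh : h ≫ W.ι = Y.hom := IsOpenImmersion.lift_fac _ _ _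
    have h2 : IsSeparated (h ≫ W.ι) := by rw [hh]; exact hYS
    have h3 : IsSeparated h := IsSeparated.of_comp h W.ι
    have hWa : IsAffine W.toScheme := hW
    refine ⟨?_⟩
    have h4 : terminal.from Y.left = h ≫ terminal.from _ := Subsingleton.elim _ _
    rw [h4]
    infer_instance
  -- the fibre
  have hfib := ThmK.finite_preimage hX hg (Set.finite_singleton (Points.ofPt a v))
  have hdim : ∀ y ∈ hfib.toFinset, IsNoetherianRing (Y.left.presheaf.stalk y) ∧
      ringKrullDim (Y.left.presheaf.stalk y) ≤ 1 := by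
    intro y hy
    rw [Set.Finite.mem_toFinset] at hy
    refine ⟨inferInstance, ?_⟩
    obtain ⟨P, p, q, sq⟩ := K609.Sep.exists_isPullback_yon hX.diag g a
    have hp : Etale p.left := ha.2 g ((yon S).map q) p sq.flip
    have hq : IsFinite q.left := hg.2 a ((yon S).map p) q sq
    obtain ⟨w, rfl, rfl⟩ := (K609.Points.ofPt_eq_ofPt_iff sq y v).1 hy
    exact ((K618.Dim.stalkDim_le_of_flat p.left w).trans (K618.Dim.stalkDim_le_of_lqf q.left w)).trans hv
  obtain ⟨O, hO, hOm⟩ := Groth.Agent.S0217.result Y.left (fun U hU => by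
    have h1 : TopologicalSpace.NoetherianSpace (U : Set Y.left) := by
      have h2 : CompactSpace U.toScheme := isCompact_iff_compactSpace.1 hU
      have h3 : IsNoetherian U.toScheme := {}
      exact (inferInstance : TopologicalSpace.NoetherianSpace U.toScheme)
    exact TopologicalSpace.NoetherianSpace.finite_irreducibleComponents) hfib.toFinset hdim
  refine ThmK.good hX hN Y g hg hgs _ (Set.finite_singleton _) O hO fun y hy => hOm y ?_
  rw [Set.Finite.mem_toFinset]
  exact hy

theorem isEqvRelSp_of {Z Y : Over S} {s t : Z ⟶ Y} (h : IsEqvRel s t) :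
    IsEqvRelSp ((yon S).map s) ((yon S).map t) := by
  refine ⟨fun T r r' h1 h2 => ?_, fun T => ?_⟩
  · obtain ⟨r, rfl⟩ := (yon S).map_surjective r
    obtain ⟨r', rfl⟩ := (yon S).map_surjective r'
    rw [← Functor.map_comp, ← Functor.map_comp] at h1 h2
    rw [h.injective T r r' ((yon S).map_injective h1) ((yon S).map_injective h2)]
  · have key : ∀ a b : (yon S).obj T ⟶ (yon S).obj Y,
        (∃ r : (yon S).obj T ⟶ (yon S).obj Z, r ≫ (yon S).map t = a ∧ r ≫ (yon S).map s = b) ↔
        ∃ r : T ⟶ Z, r ≫ t = (yon S).preimage a ∧ r ≫ s = (yon S).preimage b := by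
      intro a b
      constructor
      · rintro ⟨r, rfl, rfl⟩
        obtain ⟨r, rfl⟩ := (yon S).map_surjective r
        exact ⟨r, (yon S).map_injective (by simp), (yon S).map_injective (by simp)⟩
      · rintro ⟨r, h1, h2⟩
        exact ⟨(yon S).map r, by rw [← Functor.map_comp, h1, Functor.map_preimage],
          by rw [← Functor.map_comp, h2, Functor.map_preimage]⟩
    have he := h.equivalence T
    refine ⟨fun a => (key _ _).2 (he.refl _), fun {a b} h => (key _ _).2 (he.symm ((key _ _).1 h)),
      fun {a b c} h1 h2 => (key _ _).2 (he.trans ((key _ _).1 h1) ((key _ _).1 h2))⟩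

theorem main [IsLocallyNoetherian S] (H33 : K604.Approx.IntApprox S) {Z Y : Over S} (s t : Z ⟶ Y)
    [LocallyOfFiniteType Y.hom] (hrel : IsEqvRel s t) [Flat s.left]
    [LocallyOfFiniteType s.left] [LocallyOfFiniteType t.left]
    (hsep : IsClosedImmersion (pullback.lift t.left s.left ((Over.w t).trans (Over.w s).symm) :
      Z.left ⟶ pullback Y.hom Y.hom))
    (y : Y.left) (hy : ringKrullDim (Y.left.presheaf.stalk y) ≤ 1) :
    Sat.InAffine (quotSp ((yon S).map s) ((yon S).map t))
      {Points.ofPt (quotSpπ ((yon S).map s) ((yon S).map t)) y} := by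
  have hYN : IsLocallyNoetherian Y.left := LocallyOfFiniteType.isLocallyNoetherian Y.hom
  have hslfp : LocallyOfFinitePresentation s.left :=
    LocallyOfFinitePresentation.iff_locallyOfFiniteType.2 inferInstance
  have hj := isEqvRelSp_of hrel
  have hs : LocP @Flat ((yon S).map s) ∧ LocP @LocallyOfFinitePresentation ((yon S).map s) :=
    ⟨K597.locP_of_repWith K597.etLoc_flat.precomp ((repWith_yon_map_iff _ _).2 inferInstance),
      K597.locP_of_repWith K597.etLoc_lfp.precomp ((repWith_yon_map_iff _ _).2 inferInstance)⟩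
  have ht : LocP @LocallyOfFiniteType ((yon S).map t) :=
    K597.locP_of_repWith K597.etLoc_lft.precomp ((repWith_yon_map_iff _ _).2 inferInstance)
  set X := quotSp ((yon S).map s) ((yon S).map t) with hXdef
  set π : (yon S).obj Y ⟶ X := quotSpπ ((yon S).map s) ((yon S).map t) with hπdef
  have hX : IsAlgSpace X := K607.SpKer.isAlgSpace_quotSp (IsAlgSpace.yon_obj Z) (IsAlgSpace.yon_obj Y)
    hj hs ht
  obtain ⟨hp1, hp2, hp3⟩ := K607.SpKer.quotSpπ_props (IsAlgSpace.yon_obj Z) (IsAlgSpace.yon_obj Y)
    hj hs ht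
  have sq : IsPullback ((yon S).map t) ((yon S).map s) π π := K607.SpQuot.isPullback_quotSpπ hj
  have hrep : Representable π := Functor.relativelyRepresentable.of_diag hX.diag π
  have hpf : RepWith @Flat π := K597.repWith_of_locP K597.etLoc_flat hX.hasAtlas hrep hp2
  have hpl : RepWith @LocallyOfFinitePresentation π :=
    K597.repWith_of_locP K597.etLoc_lfp hX.hasAtlas hrep hp3
  have hps : RepWith @Surjective π := (K609.Points.repWith_surjective_iff hrep).2 hp1
  have hpF : RepWith K609.Sep.Fppf π :=
    ⟨hrep, fun _ _ g fst snd sq => ⟨⟨hps.2 g fst snd sq, hpf.2 g fst snd sq⟩, hpl.2 g fst snd sq⟩⟩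
  have hdesc : MorphismProperty.DescendsAlong @IsClosedImmersion K609.Sep.Fppf.{u} :=
    K595.DescInst.isClosedImmersion.{u}
  have hXsep : IsSeparatedSp X :=
    K609.Sep.repWith_diag_of_chart @IsClosedImmersion hX.diag hpF sq hsep
  have hpo : RepWith @UniversallyOpen π := ⟨hrep, fun _ _ g fst snd sq => by
    have h1 : Flat snd.left := hpf.2 g fst snd sq
    have h2 : LocallyOfFinitePresentation snd.left := hpl.2 g fst snd sq
    exact (inferInstance : UniversallyOpen snd.left)⟩
  -- locally Noetherian
  have hN : IsLocNoethSp X := by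
    obtain ⟨U, p, hp, hps'⟩ := hX.atlas
    refine ⟨U, p, hp, hps', ?_⟩
    obtain ⟨P, a, b, sqP⟩ := K609.Sep.exists_isPullback_yon hX.diag π p
    have h1 : Etale a.left := hp.2 π ((yon S).map b) a sqP.flip
    have h2 : IsLocallyNoetherian P.left := LocallyOfFiniteType.isLocallyNoetherian a.left
    have h3 : Flat b.left := hpf.2 p _ b sqP
    have h4 : LocallyOfFinitePresentation b.left := hpl.2 p _ b sqP
    have h5 : Surjective b.left := hps.2 p _ b sqP
    exact Groth.Agent.S0116.result b.left
  -- the open subspace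
  obtain ⟨W, hW, hyW, -⟩ := exists_isAffineOpen_mem_and_subset (U := (⊤ : S.Opens))
    (x := Y.hom y) trivial
  obtain ⟨V, hV, hyV, hVW⟩ := exists_isAffineOpen_mem_and_subset (U := Y.hom ⁻¹ᵁ W) (x := y) hyW
  let V' : Over S := Over.mk (V.ι ≫ Y.hom)
  let v : V' ⟶ Y := Over.homMk V.ι rfl
  have hv : IsOpenImmersion v.left := (inferInstance : IsOpenImmersion V.ι)
  have hV' : IsAffine V'.left := hV
  have hvo : RepWith @IsOpenImmersion ((yon S).map v) := (repWith_yon_map_iff _ _).2 hv
  let a : (yon S).obj V' ⟶ X := (yon S).map v ≫ π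
  have haf : RepWith @Flat a := K606.RepWithBasic.comp (K606.RepWithBasic.mono (fun _ _ f hf => by
    have : IsOpenImmersion f := hf
    exact (inferInstance : Flat f)) hvo) hpf
  have hao : RepWith @UniversallyOpen a := K606.RepWithBasic.comp
    (K606.RepWithBasic.mono (fun _ _ f hf => by
      have : IsOpenImmersion f := hf
      exact (inferInstance : UniversallyOpen f)) hvo) hpo
  have hopen : IsOpen (Set.range (Points.ofPt a)) :=
    (K609.Points.isOpenMap_ofPt_of_universallyOpen hao).isOpen_range
  have hι := K610.Sub.repWith_openPred hopen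
  have hrange := K610.Sub.range_openPred (X := X) (Set.range (Points.ofPt a))
  set G := (K610.Sub.openPred (X := X) (Set.range (Points.ofPt a))).sub with hGdef
  set ι : G ⟶ X := (K610.Sub.openPred (X := X) (Set.range (Points.ofPt a))).ι with hιdef
  have hG : IsAlgSpace G := K610.Sub.isAlgSpace_of_mono hι.1 hX
  have hNG : IsLocNoethSp G := Sat.isLocNoethSp_of_repWith hN
    (K606.RepWithBasic.mono (fun _ _ f hf => by
      have : IsOpenImmersion f := hf
      infer_instance) hι)
  obtain ⟨q, hqι, hq, hqs⟩ := K610.OpenImm.exists_corestrict hX hι hrange @Flat haf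
  have hqc : IsQuasiCompactSp G := by
    rw [K609.QC.isQuasiCompactSp_iff hG]
    have h1 : CompactSpace V'.left := inferInstance
    have h2 := K609.Points.surjective_ofPt_of_repWith_surjective hqs
    refine ⟨?_⟩
    rw [← h2.range_eq]
    exact isCompact_range (Points.continuous_ofPt q)
  have hsepG : IsSeparatedSp G :=
    K606.RepWithBasic.of_isPullback (K610.Sub.diag_pullback_of_mono ι).flip hXsep
  have hGW : ∀ (T : Over S) (_ : (yon S).obj T ⟶ G), Set.range T.hom ⊆ W := by
    rintro T b _ ⟨τ, rfl⟩
    obtain ⟨u, hu⟩ := K609.Points.surjective_ofPt_of_repWith_surjective hqs (Points.ofPt b τ)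
    obtain ⟨P, c, d, sqP⟩ := K609.Sep.exists_isPullback_yon hG.diag b q
    obtain ⟨w, hw1, hw2⟩ := (K609.Points.ofPt_eq_ofPt_iff sqP τ u).1 hu.symm
    have h1 : T.hom τ = V'.hom u := by
      rw [← hw1, ← hw2, ← Scheme.Hom.comp_apply, ← Scheme.Hom.comp_apply, Over.w, Over.w]
    rw [h1]
    exact hVW u.2
  -- the dimension
  let y0 : V'.left := ⟨y, hyV⟩
  have hy0 : v.left y0 = y := rfl
  obtain ⟨U, p, hp, hps'⟩ := hG.atlas
  obtain ⟨u, hu⟩ := K609.Points.surjective_ofPt_of_repWith_surjective hps' (Points.ofPt q y0)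
  have hdu : ringKrullDim (U.left.presheaf.stalk u) ≤ 1 := by
    obtain ⟨P, c, d, sqP⟩ := K609.Sep.exists_isPullback_yon hG.diag q p
    obtain ⟨w, hw1, hw2⟩ := (K609.Points.ofPt_eq_ofPt_iff sqP y0 u).1 hu.symm
    have h1 : Etale c.left := hp.2 q ((yon S).map d) c sqP.flip
    have h2 : Flat d.left := hq.2 p _ d sqP
    have h3 := K618.Dim.stalkDim_le_of_flat d.left w
    have h1' : LocallyQuasiFinite c.left := K618.Sch.locallyQuasiFinite_of_etale c.left
    have h4 := K618.Dim.stalkDim_le_of_lqf c.left w
    have h5 := K618.Dim.stalkDim_le_of_lqf v.left y0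
    rw [hw2] at h3
    rw [hw1] at h4
    rw [hy0] at h5
    exact ((h3.trans h4).trans h5).trans hy
  have key := codim_one H33 hG hNG hqc hsepG hW hGW hp u hdu
  have h2 := key.of_open hι
  rw [Set.image_singleton, hu] at h2
  have h3 : Points.map ι (Points.ofPt q y0) = Points.ofPt π y := by
    have h4 : Points.map ι (Points.ofPt q y0) = Points.ofPt (q ≫ ι) y0 := rfl
    rw [h4, hqι, K609.Points.ofPt_yon_map_comp, hy0]
  rwa [h3] at h2

end K650.S39
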